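import Groth.Agent.EtConsPush.Relative
import Groth.Agent.EtPBC.AffineLef
import Groth.Agent.S8527
import Groth.Agent.S10829
import Groth.Agent.EtPBC.LamCurve
import Groth.Agent.EtPBC.TopShriek
import Mathlib

/-!
# Compactifications of affine morphisms preserving constructibility; extensions by zero
-/

set_option autoImplicit false
set_option backward.isDefEq.respectTransparency false
set_option backward.isDefEq.respectTransparency.types false
set_option linter.auxLemma false
set_option linter.style.haveILetI false
set_option linter.unusedSectionVars false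
set_option maxHeartbeats 800000

universe u

open CategoryTheory CategoryTheory.Limits AlgebraicGeometry Opposite TopologicalSpace

noncomputable section

namespace Groth.Agent.EtConsPush

open Groth.Agent.EtPBC (ZeroAt)

/-- extensions by zero along open immersions of constructible sheaves -/
theorem isConstructible_extZero {U X : Scheme.{u}} [IsLocallyNoetherian X] (j : U ⟶ X) [IsOpenImmersion j]
    (G : EtCoh.Ab U) (hG : EtPBC.IsConstructible G) : EtPBC.IsConstructible ((EtShriek.extZero j).obj G) := by
  haveI : IsLocallyNoetherian U := isLocallyNoetherian_of_isOpenImmersion j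
  rw [Groth.Agent.S8527.result]
  intro x
  by_cases hx : x ∈ Set.range j
  · obtain ⟨w, rfl⟩ := hx
    obtain ⟨V, T, g, hg, hwV, hr, hflc⟩ := (Groth.Agent.S8527.result G).1 hG w
    haveI := hg
    refine ⟨j ''ᵁ V, T, g ≫ j, inferInstance, ⟨w, hwV, rfl⟩, ?_, ?_⟩
    · rw [Scheme.Hom.comp_base, TopCat.coe_comp, Set.range_comp, hr]
      ext z
      constructor
      · rintro ⟨y, ⟨hy, hyc⟩, rfl⟩
        exact ⟨⟨y, hy, rfl⟩, specializes_iff_mem_closure.1 ((specializes_iff_mem_closure.2 hyc).map j.continuous)⟩
      · rintro ⟨⟨y, hy, rfl⟩, hyc⟩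
        exact ⟨y, ⟨hy, specializes_iff_mem_closure.1
          (j.isOpenEmbedding.isInducing.specializes_iff.1 (specializes_iff_mem_closure.2 hyc))⟩, rfl⟩
    · obtain ⟨e⟩ := EtCons.nonempty_pull_pull g j (g ≫ j) rfl
      haveI := EtPushStalk.isIso_unit_extZero j G
      let e' : G ≅ (EtCoh.pull j).obj ((EtShriek.extZero j).obj G) :=
        asIso ((EtShriek.extZeroAdj j).unit.app G) ≪≫ (EtPushStalk.restrPullIso j).app _
      exact EtCons.isFLC_of_iso ((EtCoh.pull g).mapIso e' ≪≫ e.app _) hflc
  · let K : Closeds X := ⟨closure {x}, isClosed_closure⟩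
    let g := (Scheme.IdealSheafData.vanishingIdeal K).subschemeι
    have hr : Set.range g = closure {x} := by
      show Set.range (Scheme.IdealSheafData.vanishingIdeal K).subschemeι = _
      rw [Scheme.IdealSheafData.range_subschemeι, Scheme.IdealSheafData.coe_support_vanishingIdeal]
      rfl
    refine ⟨⊤, _, g, inferInstance, trivial, by simpa using hr, ?_⟩
    have hz : IsZero ((EtCoh.pull g).obj ((EtShriek.extZero j).obj G)) :=
      EtPBC.isZero_of_zeroAt _ fun z => EtPBC.zeroAt_pull _ _ z (EtPBC.Lam.zeroAt_extZero j G fun hz => hx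
        ((specializes_iff_mem_closure.2 (hr ▸ (⟨z, rfl⟩ : g z ∈ Set.range g))).mem_open
          j.isOpenEmbedding.isOpen_range hz))
    refine EtCons.isFLC_of_iso (IsZero.iso ?_ hz) (EtCons.isFLC_const PUnit.{1})
    haveI : (EtPBC.cstF (Scheme.IdealSheafData.vanishingIdeal K).subscheme).Additive :=
      Functor.additive_of_preserves_binary_products _
    exact (EtPBC.cstF _).map_isZero (AddCommGrpCat.isZero_of_subsingleton _)

/-- the projective line preserves constructibility -/
theorem preservesCons_toBase (P : Scheme.{u}) [AlgebraicGeometry.IsNoetherian P] :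
    IsProper (CohB1.ProjSpaceOver.toBase 1 P) ∧ PreservesCons (CohB1.ProjSpaceOver.toBase 1 P) := by
  haveI : IsProper (CohB1.ProjSpaceOver.toBase 1 P) := Chow.isProper_toBase 1 P
  refine ⟨inferInstance, preservesCons_of_fibreDim_le_one _ fun t => ?_⟩
  obtain ⟨e, -⟩ := ProjOverIso.exists_iso 1 (P.residueField t)
  let e' := (P1FinClopen.toP1_pullbackSquare (P.fromSpecResidueField t)).isoPullback
  exact ((e'.inv ≫ e.hom).isOpenEmbedding.isInducing.topologicalKrullDim_le).trans
    (Groth.Agent.S10829.result (P.residueField t) 1).le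

/-- compactifications of affine spaces -/
theorem exists_tower : ∀ (m : ℕ) (B : Type u) [CommRing B] [IsNoetherianRing B],
    ∃ (P : Scheme.{u}) (j : Spec (CommRingCat.of (MvPolynomial (Fin m) B)) ⟶ P) (p : P ⟶ Spec (CommRingCat.of B)),
      IsOpenImmersion j ∧ IsProper p ∧ j ≫ p = Spec.map (CommRingCat.ofHom MvPolynomial.C) ∧ PreservesCons p := by
  intro m
  induction m with
  | zero =>
    intro B _ _
    let e := (MvPolynomial.isEmptyRingEquiv B (Fin 0))
    haveI : IsIso (Spec.map (CommRingCat.ofHom (MvPolynomial.C : B →+* MvPolynomial (Fin 0) B))) := by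
      have : CommRingCat.ofHom (MvPolynomial.C : B →+* MvPolynomial (Fin 0) B) = e.symm.toCommRingCatIso.hom := rfl
      rw [this]
      infer_instance
    exact ⟨Spec (CommRingCat.of B), Spec.map (CommRingCat.ofHom MvPolynomial.C), 𝟙 _, inferInstance, inferInstance,
      Category.comp_id _, preservesCons_finite _⟩
  | succ m ih =>
    intro B _ _
    obtain ⟨P, j, p, hj, hp, hjp, hc⟩ := ih B
    haveI := hj
    haveI := hp
    haveI : IsLocallyNoetherian P := LocallyOfFiniteType.isLocallyNoetherian p
    haveI : CompactSpace P := QuasiCompact.compactSpace_of_compactSpace p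
    haveI : AlgebraicGeometry.IsNoetherian P := ⟨⟩
    let C' := MvPolynomial (Fin m) B
    letI : Algebra P1.R0.{u} C' := ((Int.castRingHom C').comp ULift.ringEquiv.toRingHom).toAlgebra
    let e : CommRingCat.of (MvPolynomial (Fin (m + 1)) B) ≅ CommRingCat.of (Polynomial C') :=
      (MvPolynomial.finSuccEquiv B m).toRingEquiv.toCommRingCatIso
    obtain ⟨hq, hqc⟩ := preservesCons_toBase P
    haveI := hq
    haveI : IsOpenImmersion (P1.toP1 j) :=
      MorphismProperty.of_isPullback (P1FinClopen.toP1_pullbackSquare j).flip hj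
    refine ⟨CohB1.ProjSpaceOver 1 P, Spec.map e.inv ≫ EtPBC.lineJ C' ≫ P1.toP1 j,
      CohB1.ProjSpaceOver.toBase 1 P ≫ p, inferInstance, inferInstance, ?_, preservesCons_comp hqc hc _ rfl⟩
    simp only [Category.assoc]
    rw [← Category.assoc (P1.toP1 j), (P1FinClopen.toP1_pullbackSquare j).w, Category.assoc, hjp,
      ← Category.assoc (EtPBC.lineJ C'), EtPBC.lineJ_toBase, ← Category.assoc, ← Spec.map_comp, ← Spec.map_comp]
    congr 1
    refine CommRingCat.hom_ext (RingHom.ext fun b => ?_)
    show (MvPolynomial.finSuccEquiv B m).symm (Polynomial.C (MvPolynomial.C b)) = MvPolynomial.C b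
    apply (MvPolynomial.finSuccEquiv B m).injective
    rw [AlgEquiv.apply_symm_apply]
    simp [MvPolynomial.finSuccEquiv_apply]

/-- **affine schemes of finite type over affine noetherian bases have good compactifications** -/
theorem exists_compactification_affine {B : Type u} [CommRing B] [IsNoetherianRing B] {U : Scheme.{u}} [IsAffine U]
    (a : U ⟶ Spec (CommRingCat.of B)) [LocallyOfFiniteType a] :
    ∃ c : DEt.Compactification a, AlgebraicGeometry.IsNoetherian c.Xbar ∧ PreservesCons c.fbar := by
  let φ : CommRingCat.of B ⟶ Γ(U, ⊤) := Spec.preimage (U.isoSpec.inv ≫ a)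
  have hφ : Spec.map φ = U.isoSpec.inv ≫ a := Spec.map_preimage _
  have hft : φ.hom.FiniteType := by
    rw [← HasRingHomProperty.Spec_iff (P := @LocallyOfFiniteType), hφ]
    infer_instance
  algebraize [φ.hom]
  obtain ⟨m, ψ, hψ⟩ := Algebra.FiniteType.iff_quotient_mvPolynomial''.1 hft
  obtain ⟨P, j, p, hj, hp, hjp, hc⟩ := exists_tower m B
  haveI := hj
  haveI := hp
  haveI : IsLocallyNoetherian P := LocallyOfFiniteType.isLocallyNoetherian p
  haveI : CompactSpace P := QuasiCompact.compactSpace_of_compactSpace p
  haveI : AlgebraicGeometry.IsNoetherian P := ⟨⟩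
  haveI : IsClosedImmersion (Spec.map (CommRingCat.ofHom ψ.toRingHom)) := IsClosedImmersion.spec_of_surjective _ hψ
  let i : U ⟶ Spec (CommRingCat.of (MvPolynomial (Fin m) B)) :=
    U.isoSpec.hom ≫ Spec.map (CommRingCat.ofHom ψ.toRingHom)
  let k := i ≫ j
  haveI : QuasiCompact k := inferInstance
  haveI : IsImmersion k := inferInstance
  haveI : IsFinite k.imageι := inferInstance
  haveI : IsLocallyNoetherian k.image := LocallyOfFiniteType.isLocallyNoetherian k.imageι
  haveI : CompactSpace k.image := QuasiCompact.compactSpace_of_compactSpace k.imageι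
  refine ⟨⟨k.image, k.toImage, k.imageι ≫ p, inferInstance, inferInstance, ?_⟩, ⟨⟩,
    preservesCons_comp (preservesCons_finite k.imageι) hc _ rfl⟩
  rw [← Category.assoc, Scheme.Hom.toImage_imageι]
  simp only [k, i, Category.assoc]
  rw [hjp, ← Spec.map_comp]
  have : CommRingCat.ofHom (MvPolynomial.C : B →+* MvPolynomial (Fin m) B) ≫ CommRingCat.ofHom ψ.toRingHom = φ :=
    CommRingCat.hom_ext (RingHom.ext fun b => ψ.commutes b)
  rw [this, hφ, Iso.hom_inv_id_assoc]

end Groth.Agent.EtConsPush
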