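import Groth.Agent.EtConsPush.Proper
import Groth.Agent.ZarConn.ClosedInProper
import Groth.Agent.S1477
import Groth.Agent.EtPBC.CdPClosed
import Groth.Agent.EtCons.Presentation
import Groth.Agent.EtBCQ.Chase
import Groth.Agent.EtPBC.RelDimBound
import Groth.Agent.EtPBC.CdPDev
import Mathlib

/-!
# Proper direct images of constructible sheaves over arbitrary bases

Descending induction on the degree, starting from constants on proper schemes of finite presentation,
which descend to a noetherian base.  Only kernels, cokernels and extensions of constructible sheaves are used.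
-/

set_option autoImplicit false
set_option backward.isDefEq.respectTransparency false
set_option backward.isDefEq.respectTransparency.types false
set_option linter.auxLemma false
set_option linter.style.haveILetI false
set_option linter.unusedSectionVars false
set_option maxHeartbeats 800000

universe u

open CategoryTheory CategoryTheory.Limits AlgebraicGeometry Opposite TopologicalSpace

attribute [local instance] HasDerivedCategory.standard

noncomputable section

namespace Groth.Agent.EtConsPush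

variable {X : Scheme.{u}}

/-- zero sheaves are constructible on any scheme -/
theorem isConstructible_of_isZero' {F : EtCoh.Ab X} (hF : IsZero F) : EtPBC.IsConstructible F := by
  have h := (EtCons.isConstructible_kernel_cokernel (𝟙 (EtCoh.const X (ZMod 2)))
    (EtCons.isConstructible_const _) (EtCons.isConstructible_const _)).1
  exact EtCons.isConstructible_of_iso ((isZero_kernel_of_mono _).iso hF) h

/-- constructible sheaves form a weak Serre subcategory on any scheme -/
theorem isWeakSerre_cons (X : Scheme.{u}) : WSerre.IsWeakSerre (Cons X) where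
  exists_zero := ⟨_, isZero_zero (EtCoh.Ab X), isConstructible_of_isZero' (isZero_zero _)⟩
  kernels_le := by
    rintro _ ⟨f, k, hk, hX, hY⟩
    exact EtCons.isConstructible_of_iso ((kernelIsKernel f).conePointUniqueUpToIso hk)
      (EtCons.isConstructible_kernel_cokernel f hX hY).1
  cokernels_le := by
    rintro _ ⟨f, k, hk, hX, hY⟩
    exact EtCons.isConstructible_of_iso ((cokernelIsCokernel f).coconePointUniqueUpToIso hk)
      (EtCons.isConstructible_kernel_cokernel f hX hY).2
  prop_X₂_of_shortExact hS h1 h3 := EtCons.isConstructible_middle _ hS h1 h3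

section Abstract

variable {A : Type*} [Category A] [Abelian A] (P : ObjectProperty A) [WSerre.IsWeakSerre P]

/-- the cokernel of a map out of an object admitting an exact presentation `A₀ → G → B → B'` -/
theorem prop_cokernel_of_exact {A₀ G B B' H : A} (a : A₀ ⟶ G) (δ : G ⟶ B) (v : B ⟶ B') (u : G ⟶ H)
    (w₁ : a ≫ δ = 0) (w₂ : δ ≫ v = 0) (e₁ : (ShortComplex.mk a δ w₁).Exact) (e₂ : (ShortComplex.mk δ v w₂).Exact)
    (hA : P A₀) (hB : P B) (hB' : P B') (hH : P H) : P (cokernel u) := by
  let S : ShortComplex A := ShortComplex.mk (cokernel.desc a δ w₁) v (by ext; simp [w₂])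
  have hS : S.Exact := by
    let φ : ShortComplex.mk δ v w₂ ⟶ S :=
      { τ₁ := cokernel.π a, τ₂ := 𝟙 _, τ₃ := 𝟙 _, comm₁₂ := by simp [S], comm₂₃ := by simp [S] }
    exact (ShortComplex.exact_iff_of_epi_of_isIso_of_mono φ).1 e₂
  haveI : Mono S.f := e₁.mono_cokernelDesc
  have hC : P (cokernel a) := P.prop_of_isLimit_kernelFork hS.fIsKernel hB hB'
  let p := cokernel.π (a ≫ u)
  let u' : cokernel a ⟶ cokernel (a ≫ u) := cokernel.desc a (u ≫ p) (by simp [p, ← Category.assoc])
  have hu : u ≫ p ≫ cokernel.π u' = 0 := by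
    rw [← Category.assoc, ← cokernel.π_desc a (u ≫ p) (by simp [p, ← Category.assoc]), Category.assoc]
    exact (congrArg (cokernel.π a ≫ ·) (cokernel.condition u')).trans comp_zero
  let d : cokernel (a ≫ u) ⟶ cokernel u := cokernel.desc (a ≫ u) (cokernel.π u) (by simp)
  have hd : u' ≫ d = 0 := by
    rw [← cancel_epi (cokernel.π a)]
    simp [u', d, p]
  let e : cokernel u ≅ cokernel u' :=
    { hom := cokernel.desc u (p ≫ cokernel.π u') hu
      inv := cokernel.desc u' d hd
      hom_inv_id := coequalizer.hom_ext (by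
        rw [cokernel.π_desc_assoc, Category.assoc, cokernel.π_desc, cokernel.π_desc, Category.comp_id])
      inv_hom_id := coequalizer.hom_ext (coequalizer.hom_ext (by
        rw [cokernel.π_desc_assoc, cokernel.π_desc_assoc, cokernel.π_desc, Category.comp_id])) }
  exact P.prop_of_iso e.symm (P.prop_cokernel u' hC (P.prop_cokernel _ hA hH))

/-- the middle of `X₁ → X₂ → X₃ → X₄ → X₅` only needs the first cokernel -/
theorem prop_middle_of_cokernel {X₁ X₂ X₃ X₄ X₅ : A}
    (f₁ : X₁ ⟶ X₂) (f₂ : X₂ ⟶ X₃) (f₃ : X₃ ⟶ X₄) (f₄ : X₄ ⟶ X₅)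
    (w₁ : f₁ ≫ f₂ = 0) (w₂ : f₂ ≫ f₃ = 0) (w₃ : f₃ ≫ f₄ = 0)
    (e₁ : (ShortComplex.mk f₁ f₂ w₁).Exact) (e₂ : (ShortComplex.mk f₂ f₃ w₂).Exact)
    (e₃ : (ShortComplex.mk f₃ f₄ w₃).Exact) (hc : P (cokernel f₁)) (h₄ : P X₄) (h₅ : P X₅) :
    P X₃ := by
  let S' : ShortComplex A := ShortComplex.mk (cokernel.desc f₁ f₂ w₁) f₃ (by ext; simp [w₂])
  have hS' : S'.Exact := by
    let φ : ShortComplex.mk f₂ f₃ w₂ ⟶ S' :=
      { τ₁ := cokernel.π f₁, τ₂ := 𝟙 _, τ₃ := 𝟙 _, comm₁₂ := by simp [S'], comm₂₃ := by simp [S'] }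
    exact (ShortComplex.exact_iff_of_epi_of_isIso_of_mono φ).1 e₂
  obtain ⟨Z, hZ, hPZ⟩ := P.exists_prop_of_containsZero
  haveI : Mono (cokernel.desc f₁ f₂ w₁) := e₁.mono_cokernelDesc
  exact WayOut.prop_of_exact₅ P (0 : Z ⟶ cokernel f₁) (cokernel.desc f₁ f₂ w₁) f₃ f₄ zero_comp _ w₃
    ((ShortComplex.exact_iff_mono _ rfl).2 inferInstance) hS' e₃ hPZ hc h₄ h₅

end Abstract

theorem killedBy_pull {Y : Scheme.{u}} (g : X ⟶ Y) {n : ℕ} {F : EtCoh.Ab Y} (h : EtCoh.KilledBy n F) :
    EtCoh.KilledBy n ((EtCoh.pull g).obj F) := by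
  haveI : (EtCoh.pull g).Additive := (EtCoh.pullPushAdj g).left_adjoint_additive
  rw [EtBCQ.killedBy_iff] at h ⊢
  rw [← (EtCoh.pull g).map_id, ← Functor.map_nsmul, h, Functor.map_zero]

variable {A : Type u} [CommRing A] {n : ℕ}

/-- constants on proper schemes of finite presentation over affine bases -/
theorem isConstructible_Rpush_constant (f : X ⟶ Spec (CommRingCat.of A)) [IsProper f]
    [LocallyOfFinitePresentation f] (hn : 0 < n) (q : ℕ) :
    EtPBC.IsConstructible ((EtCoh.Rpush f q).obj (EtCoh.const X (ZMod n))) := by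
  haveI : NeZero n := ⟨hn.ne'⟩
  obtain ⟨A₀, hA₀, X₀, f₀, g, hp, hfp, hsq⟩ := ZarConn.exists_model_proper f
  haveI := hp
  haveI : Algebra.FiniteType ℤ ↥A₀ := ⟨Subalgebra.fg_top A₀ |>.2 hA₀⟩
  haveI : IsNoetherianRing ↥A₀ := Algebra.FiniteType.isNoetherianRing ℤ ↥A₀
  let t := Spec.map (CommRingCat.ofHom (algebraMap (↥A₀) A))
  haveI := EtPullExact.pull_preservesFiniteLimits g
  haveI := EtPullExact.pull_preservesFiniteLimits t
  have hT : EtCoh.IsTorsion (EtCoh.const X₀ (ZMod n)) := by
    haveI : CompactSpace X₀ := QuasiCompact.compactSpace_of_compactSpace f₀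
    haveI : QuasiSeparatedSpace X₀ := quasiSeparatedSpace_of_quasiSeparated f₀
    exact isTorsion_of_isConstructible (EtCons.isConstructible_const _)
  haveI := EtPBC.isIso_bcQ_proper f₀ t f g hsq (EtCoh.const X₀ (ZMod n)) (EtPBC.isLTorsion_univ_of_isTorsion hT) q
  exact EtCons.isConstructible_of_iso
    (asIso (EtBC.bcQ f₀ t f g hsq.w q (EtCoh.const X₀ (ZMod n))) ≪≫
      (EtCoh.Rpush f q).mapIso (EtCons.pullConstM g (ZMod n)))
    (EtCons.isConstructible_pull t
      (preservesCons_proper_affine (B := ↥A₀) f₀ _ (EtCons.isConstructible_const _) q))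

/-- direct images of extensions by zero of constants from affine étale schemes -/
theorem isConstructible_Rpush_extConst (f : X ⟶ Spec (CommRingCat.of A)) [IsProper f]
    [LocallyOfFinitePresentation f] (hn : 0 < n) (U : X.Etale) [IsAffine U.left] (q : ℕ) :
    EtPBC.IsConstructible ((EtCoh.Rpush f q).obj (EtPBC.extZeroConst U (ZMod n))) := by
  haveI := isWeakSerre_cons (Spec (CommRingCat.of A))
  haveI : CompactSpace X := QuasiCompact.compactSpace_of_compactSpace f
  haveI : QuasiSeparatedSpace X := quasiSeparatedSpace_of_quasiSeparated f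
  haveI : Etale U.hom := U.prop
  haveI : X.IsSeparated := ⟨by
    rw [← terminal.comp_from f]
    infer_instance⟩
  haveI : IsAffine ((𝟭 Scheme).obj U.left) := ‹IsAffine U.left›
  haveI : IsAffineHom (U.hom ≫ f) := isAffineHom_of_isAffine _
  haveI : IsSeparated U.hom := IsSeparated.of_comp U.hom f
  haveI : QuasiCompact U.hom := QuasiCompact.of_comp U.hom f
  haveI : LocallyQuasiFinite U.hom := FpqcDescent.locallyQuasiFinite_of_etale U.hom
  haveI : LocallyOfFinitePresentation U.hom := inferInstance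
  obtain ⟨T, j, π, hj, hjq, hπ, hπfp, w⟩ := Groth.Agent.S1477.result (S := X) (U.hom : U.left ⟶ X)
  haveI := hj; haveI := hjq; haveI := hπ; haveI := hπfp
  let W := j.opensRange
  have hW : IsCompact (W : Set T) := isCompact_range j.continuous
  obtain ⟨Z, i, hi, hifp, hrange⟩ := ZarConn.exists_closedImmersion_fp (π ≫ f) W hW
  haveI := hi; haveI := hifp
  have hUZ : Set.range j.base = (Set.range i.base)ᶜ := by
    rw [hrange, compl_compl]; rfl
  obtain ⟨e⟩ := EtPBC.exists_extZeroConst_iso (M := ZMod n) U j π w i hUZ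
  obtain ⟨e'⟩ := nonempty_Rpush_push π f (π ≫ f) rfl (EtPBC.Kc i (ZMod n)) q
  refine EtCons.isConstructible_of_iso (e'.symm ≪≫ (EtCoh.Rpush f q).mapIso e.symm) ?_
  let h := π ≫ f
  have hS := EtPBC.Kc.shortExact i (ZMod n)
  haveI : (EtCoh.push h).Additive := inferInstance
  let Δ := RDerLib.derivedLES (EtCoh.push h)
  have h2 : ∀ q, EtPBC.IsConstructible ((EtCoh.Rpush h q).obj (EtCoh.const T (ZMod n))) :=
    fun q => isConstructible_Rpush_constant h hn q
  have h3 : ∀ q, EtPBC.IsConstructible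
      ((EtCoh.Rpush h q).obj ((EtCoh.push i).obj ((EtCoh.pull i).obj (EtCoh.const T (ZMod n))))) := fun q => by
    obtain ⟨e''⟩ := nonempty_Rpush_push i h (i ≫ h) rfl ((EtCoh.pull i).obj (EtCoh.const T (ZMod n))) q
    exact EtCons.isConstructible_of_iso
      ((EtCoh.Rpush (i ≫ h) q).mapIso (EtCons.pullConstM i (ZMod n)).symm ≪≫ e''.symm)
      (isConstructible_Rpush_constant (i ≫ h) hn q)
  rcases q with _ | q
  · haveI : (EtCoh.push h).PreservesMonomorphisms :=
      (EtCoh.push h).preservesMonomorphisms_of_adjunction (EtCoh.pullPushAdj h)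
    haveI : ((EtCoh.push h).rightDerived 0).PreservesMonomorphisms :=
      Functor.PreservesMonomorphisms.of_iso (EtCoh.push h).rightDerivedZeroIsoSelf.symm
    haveI : Mono (EtPBC.Kc.ι i (ZMod n)) := inferInstance
    haveI : Mono (((EtCoh.push h).rightDerived 0).map (EtPBC.Kc.ι i (ZMod n))) := inferInstance
    obtain ⟨O, hO, hPO⟩ := (Cons (Spec (CommRingCat.of A))).exists_prop_of_containsZero
    exact WayOut.prop_of_exact₅ (Cons _) (0 : O ⟶ O) (0 : O ⟶ _) _ _ zero_comp zero_comp _
      (ShortComplex.exact_of_isZero_X₂ _ hO) ((ShortComplex.exact_iff_mono _ rfl).2 inferInstance)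
      (Δ.exact₂ _ hS 0) hPO hPO (h2 0) (h3 0)
  · exact WayOut.prop_of_exact₅ (Cons _) _ _ _ _ _ _ _ (Δ.exact₃ _ hS q (q + 1) rfl)
      (Δ.exact₁ _ hS q (q + 1) rfl) (Δ.exact₂ _ hS (q + 1)) (h2 q) (h3 q) (h2 (q + 1)) (h3 (q + 1))

/-- presentations by sheaves with constructible direct images -/
theorem exists_presentation (f : X ⟶ Spec (CommRingCat.of A)) [IsProper f] [LocallyOfFinitePresentation f]
    (hn : 0 < n) (F : EtCoh.Ab X) (hF : EtPBC.IsConstructible F) (hFn : EtCoh.KilledBy n F) :
    ∃ S : ShortComplex (EtCoh.Ab X), S.ShortExact ∧ S.X₃ = F ∧ EtPBC.IsConstructible S.X₁ ∧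
      EtCoh.KilledBy n S.X₁ ∧ ∀ q, EtPBC.IsConstructible ((EtCoh.Rpush f q).obj S.X₂) := by
  haveI : CompactSpace X := QuasiCompact.compactSpace_of_compactSpace f
  haveI : QuasiSeparatedSpace X := quasiSeparatedSpace_of_quasiSeparated f
  obtain ⟨b, U, hU, g, hg⟩ := EtCons.exists_generators_killed F hF n hn hFn
  haveI := hU
  haveI := hg
  refine ⟨ShortComplex.mk (kernel.ι g) g (kernel.condition g),
    { exact := ShortComplex.exact_of_f_is_kernel _ (kernelIsKernel g) }, rfl,
    (EtCons.isConstructible_kernel_cokernel g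
      (EtCons.isConstructible_biproduct _ fun j => EtCons.isConstructible_extConst (U j) n hn) hF).1,
    EtCons.killedBy_of_mono (kernel.ι g)
      (EtCons.killedBy_biproduct _ n fun j => EtCons.killedBy_extConst (U j) n), fun q => ?_⟩
  exact EtCons.isConstructible_of_iso ((EtCoh.Rpush f q).mapBiproduct _).symm
    (EtCons.isConstructible_biproduct _ fun j => isConstructible_Rpush_extConst f hn (U j) q)

/-- **affine base, arbitrary coefficients killed by `n`** -/
theorem isConstructible_Rpush_affine (f : X ⟶ Spec (CommRingCat.of A)) [IsProper f]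
    [LocallyOfFinitePresentation f] (hn : 0 < n) (F : EtCoh.Ab X) (hF : EtPBC.IsConstructible F)
    (hFn : EtCoh.KilledBy n F) (q : ℕ) : EtPBC.IsConstructible ((EtCoh.Rpush f q).obj F) := by
  haveI : CompactSpace X := QuasiCompact.compactSpace_of_compactSpace f
  obtain ⟨d, hd⟩ := EtRshriek.exists_fibre_bound f
  haveI := isWeakSerre_cons (Spec (CommRingCat.of A))
  let Δ := RDerLib.derivedLES (EtCoh.push f)
  suffices H : ∀ (k q : ℕ), 2 * d + 1 ≤ q + k → ∀ F : EtCoh.Ab X, EtPBC.IsConstructible F → EtCoh.KilledBy n F →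
      EtPBC.IsConstructible ((EtCoh.Rpush f q).obj F) from H (2 * d + 1) q (by omega) F hF hFn
  intro k
  induction k with
  | zero =>
    intro q hq F _ hFn
    exact isConstructible_of_isZero' (EtPBC.isZero_Rpush_of_fibreDim f d hd F
      (EtPBC.isLTorsion_univ_of_isTorsion (isTorsion_of_killedBy hn hFn)) q (by omega))
  | succ k ih =>
    intro q hq F hF hFn
    obtain ⟨S, hS, hS3, hK, hKn, hP⟩ := exists_presentation f hn F hF hFn
    subst hS3
    obtain ⟨S', hS', hS'3, hK', hK'n, hP'⟩ := exists_presentation f hn S.X₁ hK hKn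
    have hc : EtPBC.IsConstructible (cokernel ((EtCoh.Rpush f q).map S.f)) := by
      have key : ∀ (G : EtCoh.Ab X), S'.X₃ = G → ∀ u : (EtCoh.Rpush f q).obj G ⟶ (EtCoh.Rpush f q).obj S.X₂,
          EtPBC.IsConstructible (cokernel u) := by
        intro G hG u
        subst hG
        exact prop_cokernel_of_exact (Cons _) _ _ _ u _ _ (Δ.exact₃ S' hS' q (q + 1) rfl)
          (Δ.exact₁ S' hS' q (q + 1) rfl) (hP' q) (ih (q + 1) (by omega) _ hK' hK'n) (hP' (q + 1)) (hP q)
      exact key S.X₁ hS'3 _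
    exact prop_middle_of_cokernel (Cons _) _ _ _ _ _ _ _ (Δ.exact₂ S hS q) (Δ.exact₃ S hS q (q + 1) rfl)
      (Δ.exact₁ S hS q (q + 1) rfl) hc (ih (q + 1) (by omega) _ hK hKn) (hP (q + 1))

/-- **proper direct images of constructible sheaves over arbitrary bases** -/
theorem isConstructible_Rpush_proper {S : Scheme.{u}} (f : X ⟶ S) [IsProper f] [LocallyOfFinitePresentation f]
    (hn : 0 < n) (F : EtCoh.Ab X) (hF : EtPBC.IsConstructible F) (hFn : EtCoh.KilledBy n F) (q : ℕ) :
    EtPBC.IsConstructible ((EtCoh.Rpush f q).obj F) := by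
  refine EtCons.isConstructible_of_openCover _ (fun V : S.affineOpens => V.1) (iSup_affineOpens_eq_top S) fun V => ?_
  haveI : IsAffine V.1.toScheme := V.2
  let t : Spec Γ(S, V.1) ⟶ S := V.2.fromSpec
  let g' := pullback.fst f t
  haveI := EtPullExact.pull_preservesFiniteLimits g'
  haveI := EtPBC.isIso_bcQ_proper f t (pullback.snd f t) g' (IsPullback.of_hasPullback f t) F
    (EtPBC.isLTorsion_univ_of_isTorsion (isTorsion_of_killedBy hn hFn)) q
  have h1 : EtPBC.IsConstructible ((EtCoh.pull t).obj ((EtCoh.Rpush f q).obj F)) :=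
    EtCons.isConstructible_of_iso
      (asIso (EtBC.bcQ f t (pullback.snd f t) g' (IsPullback.of_hasPullback f t).w q F)).symm
      (isConstructible_Rpush_affine (A := Γ(S, V.1)) (pullback.snd f t) hn _ (EtCons.isConstructible_pull g' hF)
        (killedBy_pull g' hFn) q)
  let e : V.1.toScheme ⟶ Spec Γ(S, V.1) := V.2.isoSpec.hom
  obtain ⟨c⟩ := EtCons.nonempty_pull_pull e t V.1.ι V.2.isoSpec_hom_fromSpec
  exact EtCons.isConstructible_of_iso (c.app _) (EtCons.isConstructible_pull e h1)

end Groth.Agent.EtConsPush
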