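import Groth.Agent.GeomFib.Consequences
import Groth.Agent.GeomFib.FieldExt
import Groth.Agent.SubGen.SpreadBase
import Groth.Agent.EtPBC.Curve
import Groth.Agent.EtPBC.GenPic
import Mathlib

/-!
# The number of one-dimensional components of geometric fibres is constant near the generic point
-/

set_option autoImplicit false
set_option backward.isDefEq.respectTransparency false
set_option backward.isDefEq.respectTransparency.types false
set_option linter.style.haveILetI false
set_option linter.unusedSectionVars false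
set_option maxHeartbeats 1000000

universe u

open CategoryTheory CategoryTheory.Limits AlgebraicGeometry Opposite TopologicalSpace

noncomputable section

namespace Groth.Agent.EtConsPush

open Groth.Agent.EtPBC (IsMaxPt)

/-- maximal points correspond to irreducible components -/
theorem card_maxPt (X : Scheme.{u}) :
    Nat.card {x : X // IsMaxPt x} = Nat.card ↥(irreducibleComponents (X : Type u)) := by
  refine Nat.card_eq_of_bijective (fun x => ⟨closure {x.1}, EtPBC.closure_mem_irreducibleComponents x.2⟩)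
    ⟨fun a b h => Subtype.ext ?_, fun Z => ?_⟩
  · have h' : closure ({a.1} : Set X) = closure {b.1} :=
      congrArg (fun t : ↥(irreducibleComponents (X : Type u)) => t.1) h
    exact b.2 _ (specializes_iff_mem_closure.2 (h' ▸ subset_closure rfl))
  · obtain ⟨η, hη⟩ := QuasiSober.sober Z.2.1 (isClosed_of_mem_irreducibleComponents Z.1 Z.2)
    refine ⟨⟨η, fun y hy => ?_⟩, Subtype.ext hη⟩
    have hle : Z.1 ⊆ closure ({y} : Set X) := by
      rw [← hη.def]
      exact closure_minimal (Set.singleton_subset_iff.2 (specializes_iff_mem_closure.1 hy)) isClosed_closure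
    exact (hy.antisymm (specializes_iff_mem_closure.2 (hη.def.symm.subset
      (Z.2.2 isIrreducible_singleton.closure hle (subset_closure rfl))))).eq

/-- closed maximal points of noetherian spaces are isolated -/
theorem isOpen_of_maxPt_closed {X : Scheme.{u}} [NoetherianSpace X] {x : X} (hx : IsMaxPt x)
    (hc : IsClosed ({x} : Set X)) : IsOpen ({x} : Set X) := by
  let C : Set X := ⋃ (Z : ↥(irreducibleComponents (X : Type u))) (_ : x ∉ Z.1), Z.1
  haveI := (NoetherianSpace.finite_irreducibleComponents (α := (X : Type u))).to_subtype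
  have hC : IsClosed C := isClosed_iUnion_of_finite fun Z => isClosed_iUnion_of_finite fun _ =>
    isClosed_of_mem_irreducibleComponents _ Z.2
  have : ({x} : Set X) = Cᶜ := by
    refine Set.Subset.antisymm (Set.singleton_subset_iff.2 fun hxC => ?_) fun z hz => ?_
    · simp only [C, Set.mem_iUnion] at hxC
      obtain ⟨Z, h1, h2⟩ := hxC
      exact h1 h2
    · obtain ⟨η, hη, hηz⟩ := EtPBC.exists_isMaxPt z
      by_contra hne
      refine hz (Set.mem_iUnion.2 ⟨⟨_, EtPBC.closure_mem_irreducibleComponents hη⟩,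
        Set.mem_iUnion.2 ⟨fun h => ?_, specializes_iff_mem_closure.1 hηz⟩⟩)
      have he : η = x := hx η (specializes_iff_mem_closure.2 h)
      have hz' : z ∈ closure ({x} : Set X) := he ▸ specializes_iff_mem_closure.1 hηz
      rw [hc.closure_eq] at hz'
      exact hne hz'
  rw [this]
  exact hC.isOpen_compl

variable {T Y : Scheme.{u}} [IsIntegral T] [AlgebraicGeometry.IsNoetherian T] (g : Y ⟶ T) [IsProper g]

/-- **the number of one-dimensional components of the geometric fibres near the generic point** -/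
theorem exists_open_card_components :
    ∃ (O : T.Opens) (N : ℕ), genericPoint T ∈ O ∧ ∀ s ∈ O,
      Nat.card {x : ↥(pullback g (GeomFib.geomPt s)) // IsMaxPt x ∧ ¬ IsClosed ({x} : Set ↥(pullback g (GeomFib.geomPt s)))} = N := by
  haveI : IsLocallyNoetherian Y := LocallyOfFiniteType.isLocallyNoetherian g
  haveI : CompactSpace Y := QuasiCompact.compactSpace_of_compactSpace g
  haveI : AlgebraicGeometry.IsNoetherian Y := ⟨⟩
  let η := genericPoint T
  let I : Set Y := {y | g y = η ∧ g.QuasiFiniteAt y}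
  let K : Closeds Y := ⟨closure I, isClosed_closure⟩
  let Z := (Scheme.IdealSheafData.vanishingIdeal K).subscheme
  let i : Z ⟶ Y := (Scheme.IdealSheafData.vanishingIdeal K).subschemeι
  have hri : Set.range i = closure I := by
    show Set.range (Scheme.IdealSheafData.vanishingIdeal K).subschemeι = _
    rw [Scheme.IdealSheafData.range_subschemeι, Scheme.IdealSheafData.coe_support_vanishingIdeal]
    rfl
  let h := i ≫ g
  -- isolated points of the generic fibre are closed and open in it
  have hfib : ∀ y z : Y, g y = η → g z = η → g.QuasiFiniteAt y → y ⤳ z → z = y := by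
    intro y z hy hz hq hyz
    have h1 := hq.isClopen_singleton_asFiber.1
    let e := g.fiberHomeo (g y)
    have hs : g.asFiber y ⤳ e.symm ⟨z, hz.trans hy.symm⟩ :=
      (Topology.IsInducing.subtypeVal.specializes_iff.1
        (show (⟨y, rfl⟩ : g ⁻¹' {g y}).1 ⤳ (⟨z, hz.trans hy.symm⟩ : g ⁻¹' {g y}).1 from hyz)).map e.symm.continuous
    have h2 := hs.mem_closed h1 rfl
    exact congrArg Subtype.val (e.symm.injective h2)
  have hIfin : I.Finite := by
    have hd : _root_.IsDiscrete I := by
      rw [isDiscrete_iff_discreteTopology, discreteTopology_iff_isOpen_singleton]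
      rintro ⟨y, hy, hq⟩
      have h1 := hq.isClopen_singleton_asFiber.2
      rw [← (g.fiberHomeo (g y)).isOpen_image, Set.image_singleton] at h1
      obtain ⟨W, hW, hWy⟩ := isOpen_induced_iff.1 h1
      refine isOpen_induced_iff.2 ⟨W, hW, Set.ext fun z => ?_⟩
      have hy' : (g.fiberHomeo (g y)) (g.asFiber y) = ⟨y, rfl⟩ := Homeomorph.apply_symm_apply _ _
      rw [hy'] at hWy
      constructor
      · intro hz
        have := (Set.ext_iff.1 hWy ⟨z.1, z.2.1.trans hy.symm⟩).1 hz
        exact Subtype.ext (congrArg (fun t : ↥(g ⁻¹' {g y}) => t.1) (Set.mem_singleton_iff.1 this))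
      · rintro rfl
        exact (Set.ext_iff.1 hWy ⟨y, rfl⟩).2 rfl
    exact (NoetherianSpace.isCompact I).finite hd
  have hKη : ∀ z ∈ closure I, g z = η → z ∈ I := fun z hz hzη => by
    rw [← Set.biUnion_of_singleton I, hIfin.closure_biUnion] at hz
    simp only [Set.mem_iUnion] at hz
    obtain ⟨y, hy, hyz⟩ := hz
    exact hfib y z hy.1 hzη hy.2 (specializes_iff_mem_closure.2 hyz) ▸ hy
  -- quasi-finiteness of the closure near the generic point
  have hqf : ∀ z : Z, h z = η → h.QuasiFiniteAt z := fun z hz => by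
    have hiz : i z ∈ I := hKη _ (hri ▸ ⟨z, rfl⟩) hz
    show ((i ≫ g).stalkMap z).hom.QuasiFinite
    rw [Scheme.Hom.stalkMap_comp, CommRingCat.hom_comp]
    exact (i.quasiFiniteAt z).comp hiz.2
  let C : Set T := h '' ((h.quasiFiniteLocus : Set Z)ᶜ)
  have hC : IsClosed C := h.isClosedMap _ h.quasiFiniteLocus.2.isClosed_compl
  let O₁ : T.Opens := ⟨Cᶜ, hC.isOpen_compl⟩
  have hO₁ : η ∈ O₁ := fun hη => by
    obtain ⟨z, hz, hzη⟩ := hη
    exact hz (hqf z hzη)
  -- the complement
  let U : Y.Opens := K.compl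
  let u : U.toScheme ⟶ T := U.ι ≫ g
  haveI : QuasiCompact U.ι := inferInstance
  obtain ⟨O₂, hO₂, hflat, -⟩ := SubGen.Spread.exists_open_flat_fp u
  obtain ⟨O₃, hO₃, hcount⟩ := GeomFib.exists_open_nGeom u η
  refine ⟨O₁ ⊓ O₂ ⊓ O₃, (MoreMor.nGeomIrredComp u η).toNat, ⟨⟨hO₁, hO₂⟩, hO₃⟩, fun s hs => ?_⟩
  obtain ⟨⟨hs₁, hs₂⟩, hs₃⟩ := hs
  rw [← (hcount s hs₃ (genericPoint_specializes s)).1,
    (GeomFib.nGeom_eq u (GeomFib.geomPt s) s (GeomFib.fromSpecResidueField_geomPt s)).1]
  let ξ := GeomFib.geomPt s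
  let Ω := AlgebraicClosure (T.residueField s)
  let X := pullback g ξ
  let a : X ⟶ Spec (CommRingCat.of Ω) := pullback.snd g ξ
  let p : X ⟶ Y := pullback.fst g ξ
  have hps : ∀ x : X, g (p x) = s := fun x => by
    rw [← Scheme.Hom.comp_apply, pullback.condition, Scheme.Hom.comp_apply,
      Subsingleton.elim (α := ↥(Spec (CommRingCat.of Ω))) (pullback.snd g ξ x) (IsLocalRing.closedPoint _)]
    exact GeomFib.fromSpecResidueField_geomPt s
  haveI : IsLocallyNoetherian X := LocallyOfFiniteType.isLocallyNoetherian a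
  haveI : CompactSpace X := QuasiCompact.compactSpace_of_compactSpace a
  haveI : AlgebraicGeometry.IsNoetherian X := ⟨⟩
  -- points over the closure are closed
  have hclosed : ∀ x : X, p x ∈ closure I → IsClosed ({x} : Set X) := by
    intro x hx
    let V := h.quasiFiniteLocus
    let j : V.toScheme ⟶ Y := V.ι ≫ i
    haveI : LocallyQuasiFinite (j ≫ g) := by rw [Category.assoc]; infer_instance
    let m : pullback (j ≫ g) ξ ⟶ X := pullback.map (j ≫ g) ξ g ξ j (𝟙 _) (𝟙 _) (by simp) (by simp)
    haveI : IsPreimmersion j := inferInstance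
    haveI : IsPreimmersion m := MorphismProperty.of_isPullback
      (IsPullback.of_right (by simpa [m] using (IsPullback.of_hasPullback (j ≫ g) ξ).flip)
        (pullback.lift_fst _ _ _ : m ≫ p = pullback.fst (j ≫ g) ξ ≫ j) (IsPullback.of_hasPullback g ξ).flip).flip ‹_›
    have hrm : Set.range m = p ⁻¹' closure I := by
      rw [Scheme.Pullback.range_map]
      ext t
      simp only [Set.mem_inter_iff, Set.mem_preimage, Scheme.Hom.id_base, TopCat.coe_id, Set.range_id,
        Set.mem_univ, and_true]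
      constructor
      · rintro ⟨v, hv⟩
        rw [← hri]
        exact ⟨V.ι v, hv⟩
      · intro ht
        rw [← hri] at ht
        obtain ⟨z, hz⟩ := ht
        have hzV : z ∈ V := by
          by_contra hz'
          have hh : h z = s := by rw [Scheme.Hom.comp_apply, hz]; exact hps t
          exact hs₁ ⟨z, hz', hh⟩
        exact ⟨⟨z, hzV⟩, hz⟩
    obtain ⟨w, rfl⟩ : x ∈ Set.range m := by rw [hrm]; exact hx
    haveI : IsLocallyArtinian (pullback (j ≫ g) ξ) :=
      IsLocallyArtinian.of_locallyQuasiFinite (pullback.snd (j ≫ g) ξ)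
    have hcl : IsClosed (Set.range m) := by rw [hrm]; exact isClosed_closure.preimage p.continuous
    have : Topology.IsClosedEmbedding m := ⟨m.isEmbedding, hcl⟩
    rw [← Set.image_singleton]
    exact this.isClosedMap _ (isClosed_discrete _)
  -- no isolated points off the closure
  have hnoiso : ∀ x : X, p x ∉ closure I → ¬ IsOpen ({x} : Set X) := by
    intro x hx hop
    obtain ⟨c, hc, hcsq⟩ := GeomFib.exists_bc (K := ↥(T.residueField s)) (L := AlgebraicClosure ↥(T.residueField s)) g (T.fromSpecResidueField s) ξ rfl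
    obtain ⟨-, hco, -⟩ := GeomFib.bc_props hcsq
    let y := p x
    have hyq : g.QuasiFiniteAt y := by
      rw [Scheme.Hom.quasiFiniteAt_iff_isOpen_singleton_asFiber]
      have h1 := hco _ hop
      rw [Set.image_singleton] at h1
      have h2 : pullback.fst g (T.fromSpecResidueField s) (c x) = y := by
        rw [← Scheme.Hom.comp_apply, hc]
      have key : ∀ (y' : Y) (s' : T), g y' = s' → ∀ w : g.fiber s', g.fiberι s' w = y' →
          IsOpen ({w} : Set (g.fiber s')) → IsOpen ({g.asFiber y'} : Set (g.fiber (g y'))) := by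
        rintro y' s' rfl w hy' hw
        have : g.asFiber y' = w := (g.fiberι _).isEmbedding.injective
          ((g.fiberι_fiberHomeo_symm _ _).trans hy'.symm)
        rwa [this]
      exact key y s (hps x) (c x) h2 h1
    have hyU : y ∈ U := hx
    have hy₂ : g y ∈ O₂ := by rw [show g y = s from hps x]; exact hs₂
    let π := pullback.snd u O₂.ι
    obtain ⟨y₀, hy₀, hy₀'⟩ : ∃ y₀ : ↥(pullback u O₂.ι), U.ι (pullback.fst u O₂.ι y₀) = y ∧ (π y₀).1 = g y := by
      obtain ⟨q, h3, h4⟩ := Scheme.Pullback.exists_preimage_pullback (f := u) (g := O₂.ι) ⟨y, hyU⟩ ⟨g y, hy₂⟩ rfl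
      exact ⟨q, congrArg U.ι h3, congrArg Subtype.val h4⟩
    haveI : Nonempty O₂.toScheme := ⟨⟨η, hO₂⟩⟩
    have hgen : (⟨η, hO₂⟩ : O₂.toScheme) ⤳ π y₀ :=
      O₂.ι.isOpenEmbedding.isInducing.specializes_iff.1 (genericPoint_specializes _)
    obtain ⟨y₁, hy₁, hy₁'⟩ := (Flat.generalizingMap (f := π)) hgen
    let y' : Y := U.ι (pullback.fst u O₂.ι y₁)
    have hsp : y' ⤳ y := hy₀ ▸ hy₁.map (pullback.fst u O₂.ι ≫ U.ι).continuous
    have hgy' : g y' = η := by
      show (pullback.fst u O₂.ι ≫ u) y₁ = η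
      rw [pullback.condition, Scheme.Hom.comp_apply, hy₁']
      rfl
    have hq' : g.QuasiFiniteAt y' := hsp.mem_open g.quasiFiniteLocus.2 hyq
    exact (pullback.fst u O₂.ι y₁).2 (subset_closure ⟨hgy', hq'⟩)
  -- compare with the open piece
  let XU := pullback u ξ
  let m : XU ⟶ X := pullback.map u ξ g ξ U.ι (𝟙 _) (𝟙 _) (by simp [u]) (by simp)
  haveI : IsOpenImmersion m := inferInstance
  have hrm : Set.range m = p ⁻¹' (U : Set Y) := by
    rw [Scheme.Pullback.range_map]
    ext t
    rw [Set.mem_inter_iff, Set.mem_preimage, Set.mem_preimage, Scheme.Opens.range_ι]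
    exact ⟨fun h => h.1, fun h => ⟨h, ⟨_, rfl⟩⟩⟩
  haveI : IsLocallyNoetherian XU := isLocallyNoetherian_of_isOpenImmersion m
  haveI : NoetherianSpace XU := m.isOpenEmbedding.isInducing.noetherianSpace
  have hup : ∀ (x x' : X), x ∈ Set.range m → x' ⤳ x → x' ∈ Set.range m := fun x x' hx hxx =>
    hxx.mem_open m.isOpenEmbedding.isOpen_range hx
  rw [← Set.Finite.cast_ncard_eq NoetherianSpace.finite_irreducibleComponents, ENat.toNat_coe,
    ← Nat.card_coe_set_eq, ← card_maxPt]
  refine (Nat.card_eq_of_bijective (fun w : {w : XU // IsMaxPt w} =>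
    (⟨m w.1, fun x' hx' => ?_, fun hc => ?_⟩ : {x : X // IsMaxPt x ∧ ¬ IsClosed ({x} : Set X)})) ⟨?_, ?_⟩).symm
  · obtain ⟨w', rfl⟩ := hup _ _ ⟨w.1, rfl⟩ hx'
    rw [w.2 w' (m.isOpenEmbedding.isInducing.specializes_iff.1 hx')]
  · refine hnoiso (m w.1) (Set.ext_iff.1 hrm _ |>.1 ⟨w.1, rfl⟩) (isOpen_of_maxPt_closed (fun x' hx' => ?_) hc)
    obtain ⟨w', rfl⟩ := hup _ _ ⟨w.1, rfl⟩ hx'
    rw [w.2 w' (m.isOpenEmbedding.isInducing.specializes_iff.1 hx')]
  · intro w w' hw
    exact Subtype.ext (m.isOpenEmbedding.injective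
      (congrArg (fun t : {x : X // IsMaxPt x ∧ ¬ IsClosed ({x} : Set X)} => t.1) hw))
  · rintro ⟨x, hx, hxc⟩
    obtain ⟨w, rfl⟩ : x ∈ Set.range m := hrm ▸ fun hxI => hxc (hclosed x hxI)
    exact ⟨⟨w, fun w' hw' => m.isOpenEmbedding.injective (hx _ (hw'.map m.continuous))⟩, rfl⟩

end Groth.Agent.EtConsPush
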