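import Groth.Agent.EtPBC.CurveH2Proper
import Groth.Agent.EtPBC.CurveFinDev
import Groth.Agent.EtPBC.IsoAt
import Mathlib

/-!
# `H^2` of proper curves counts the one-dimensional components
-/

set_option autoImplicit false
set_option backward.isDefEq.respectTransparency false
set_option backward.isDefEq.respectTransparency.types false
set_option linter.auxLemma false
set_option linter.style.haveILetI false
set_option linter.unusedSectionVars false
set_option maxHeartbeats 1000000

universe u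

open CategoryTheory CategoryTheory.Limits CategoryTheory.Abelian AlgebraicGeometry Opposite TopologicalSpace IsLocalRing

noncomputable section

namespace Groth.Agent.EtConsPush

open Groth.Agent.EtPBC

attribute [local instance 100000] EtCoh.H._proof_1 EtMV.hext
attribute [local instance 200000] EtMV.hextAb

section LES

variable {X : Scheme.{u}} {S : ShortComplex (EtCoh.Ab X)} (hS : S.ShortExact)

include hS in
theorem card_H_eq_of_X₁_zero (q : ℕ) (h1 : Subsingleton (EtCoh.H X S.X₁ q))
    (h1' : Subsingleton (EtCoh.H X S.X₁ (q + 1))) :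
    Nat.card (EtCoh.H X S.X₂ q) = Nat.card (EtCoh.H X S.X₃ q) := by
  refine Nat.card_eq_of_bijective ((Ext.mk₀ S.g).postcomp _ (add_zero q) : EtCoh.H X S.X₂ q →+ EtCoh.H X S.X₃ q)
    ⟨(injective_iff_map_eq_zero _).2 fun x hx => ?_, fun x => ?_⟩
  · obtain ⟨y, hy⟩ := Ext.covariant_sequence_exact₂ (EtCoh.const X ℤ) hS x hx
    rw [← hy, Subsingleton.elim (α := EtCoh.H X S.X₁ q) y 0, Ext.zero_comp]
  · exact Ext.covariant_sequence_exact₃ (EtCoh.const X ℤ) hS x rfl (Subsingleton.elim (α := EtCoh.H X S.X₁ (q + 1)) _ _)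

include hS in
theorem card_H_eq_of_X₃_zero (q : ℕ) (h3 : Subsingleton (EtCoh.H X S.X₃ q))
    (h3' : Subsingleton (EtCoh.H X S.X₃ (q + 1))) :
    Nat.card (EtCoh.H X S.X₁ (q + 1)) = Nat.card (EtCoh.H X S.X₂ (q + 1)) := by
  refine Nat.card_eq_of_bijective
    ((Ext.mk₀ S.f).postcomp _ (add_zero (q + 1)) : EtCoh.H X S.X₁ (q + 1) →+ EtCoh.H X S.X₂ (q + 1))
    ⟨(injective_iff_map_eq_zero _).2 fun x hx => ?_, fun x => ?_⟩
  · obtain ⟨y, hy⟩ := Ext.covariant_sequence_exact₁ (EtCoh.const X ℤ) hS x hx (rfl : q + 1 = q + 1)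
    rw [← hy, Subsingleton.elim (α := EtCoh.H X S.X₃ q) y 0, Ext.zero_comp]
  · exact Ext.covariant_sequence_exact₂ (EtCoh.const X ℤ) hS x (Subsingleton.elim (α := EtCoh.H X S.X₃ (q + 1)) _ _)

end LES

variable {X : Scheme.{u}} [AlgebraicGeometry.IsNoetherian X]

/-- cohomology above degree one does not see the closed points -/
theorem card_H_eq_of_isoAt (hsep : ∀ x : X, IsClosed ({x} : Set X) → IsSepClosed (X.residueField x))
    {F G : EtCoh.Ab X} (f : F ⟶ G) (hf : ∀ x : X, ¬ IsClosed ({x} : Set X) → IsoAt f x) (q : ℕ) (hq : 2 ≤ q) :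
    Nat.card (EtCoh.H X F q) = Nat.card (EtCoh.H X G q) := by
  obtain ⟨q, rfl⟩ : ∃ j, q = j + 1 := ⟨q - 1, by omega⟩
  let p : F ⟶ cokernel (kernel.ι f) := cokernel.π (kernel.ι f)
  let v : cokernel (kernel.ι f) ⟶ G := cokernel.desc _ f (kernel.condition f)
  haveI : Mono v := (ShortComplex.exact_iff_mono_cokernel_desc
    (ShortComplex.mk (kernel.ι f) f (kernel.condition f))).1
    (ShortComplex.exact_of_f_is_kernel _ (kernelIsKernel f))
  have hA : (ShortComplex.mk (kernel.ι f) p (cokernel.condition _)).ShortExact :=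
    { exact := ShortComplex.exact_of_g_is_cokernel _ (cokernelIsCokernel _) }
  have hB : (ShortComplex.mk v (cokernel.π v) (cokernel.condition v)).ShortExact :=
    { exact := ShortComplex.exact_of_g_is_cokernel _ (cokernelIsCokernel _) }
  have hw : f ≫ cokernel.π v = 0 := by
    exact (congrArg (· ≫ cokernel.π v) (cokernel.π_desc (kernel.ι f) f (kernel.condition f)).symm).trans
      ((Category.assoc _ _ _).trans ((congrArg (p ≫ ·) (cokernel.condition v)).trans comp_zero))
  have hK : SuppClosed (kernel f) := fun x hx => (hf x hx).1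
  have hC : SuppClosed (cokernel v) := fun x hx => by
    haveI : Epi (cokernel.desc f (cokernel.π v) hw) := epi_of_epi_fac (cokernel.π_desc f (cokernel.π v) hw)
    exact zeroAt_of_epi (cokernel.desc f (cokernel.π v) hw) (hf x hx).2
  have hK' := fun r (hr : 0 < r) => subsingleton_H_of_suppClosed hsep _ hK r hr
  have hC' := fun r (hr : 0 < r) => subsingleton_H_of_suppClosed hsep _ hC r hr
  exact (card_H_eq_of_X₁_zero hA (q + 1) (hK' _ (by omega)) (hK' _ (by omega))).trans
    (card_H_eq_of_X₃_zero hB q (hC' _ (by omega)) (hC' _ (by omega)))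

omit [AlgebraicGeometry.IsNoetherian X] in
/-- cardinalities of cohomology of finite sums -/
theorem card_H_biproduct {M : Type} [Fintype M] (A : M → EtCoh.Ab X) (q : ℕ) :
    Nat.card (EtCoh.H X (⨁ A) q) = ∏ i, Nat.card (EtCoh.H X (A i) q) := by
  classical
  rw [← Nat.card_pi]
  let φ : ∀ z : EtCoh.H X (⨁ A) q, (⨁ A ⟶ ⨁ A) →+ EtCoh.H X (⨁ A) q := fun z =>
    AddMonoidHom.mk' (fun g => Ext.comp z (Ext.mk₀ g) (add_zero q)) fun g g' => by rw [Ext.mk₀_add, Ext.comp_add]
  refine Nat.card_eq_of_bijective (fun (x : EtCoh.H X (⨁ A) q) (i : M) =>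
    (Ext.comp x (Ext.mk₀ (biproduct.π A i)) (add_zero q) : EtCoh.H X (A i) q)) ⟨fun x y h => ?_, fun a => ?_⟩
  · have key : ∀ z : EtCoh.H X (⨁ A) q, z = ∑ i, φ z (biproduct.π A i ≫ biproduct.ι A i) := fun z =>
      (Ext.comp_mk₀_id z).symm.trans ((congrArg (φ z) biproduct.total.symm).trans (map_sum (φ z) _ _))
    rw [key x, key y]
    refine Finset.sum_congr rfl fun i _ => ?_
    show Ext.comp x (Ext.mk₀ (biproduct.π A i ≫ biproduct.ι A i)) (add_zero q) =
      Ext.comp y (Ext.mk₀ (biproduct.π A i ≫ biproduct.ι A i)) (add_zero q)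
    rw [← Ext.mk₀_comp_mk₀, ← Ext.comp_assoc_of_second_deg_zero, ← Ext.comp_assoc_of_second_deg_zero]
    exact congrArg (fun t : EtCoh.H X (A i) q => Ext.comp t (Ext.mk₀ (biproduct.ι A i)) (add_zero q)) (congrFun h i)
  · let ψ : ∀ i, EtCoh.H X (⨁ A) q →+ EtCoh.H X (A i) q := fun i =>
      (Ext.mk₀ (biproduct.π A i)).postcomp _ (add_zero q)
    refine ⟨∑ j, (Ext.comp (a j) (Ext.mk₀ (biproduct.ι A j)) (add_zero q) : EtCoh.H X (⨁ A) q), funext fun i => ?_⟩
    show ψ i (∑ j, _) = a i
    rw [map_sum, Finset.sum_eq_single i]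
    · show Ext.comp (Ext.comp (a i) (Ext.mk₀ (biproduct.ι A i)) (add_zero q)) (Ext.mk₀ (biproduct.π A i)) (add_zero q) = a i
      rw [Ext.comp_assoc_of_second_deg_zero, Ext.mk₀_comp_mk₀, biproduct.ι_π_self, Ext.comp_mk₀_id]
    · intro j _ hj
      show Ext.comp (Ext.comp (a j) (Ext.mk₀ (biproduct.ι A j)) (add_zero q)) (Ext.mk₀ (biproduct.π A i)) (add_zero q) = 0
      rw [Ext.comp_assoc_of_second_deg_zero, Ext.mk₀_comp_mk₀, biproduct.ι_π_ne A hj, Ext.mk₀_zero, Ext.comp_zero]
    · exact fun h => absurd (Finset.mem_univ i) h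

/-- finite direct images -/
theorem card_H_push {Y : Scheme.{u}} (f : X ⟶ Y) [IsFinite f] (F : EtCoh.Ab X) (q : ℕ) :
    Nat.card (EtCoh.H Y ((EtCoh.push f).obj F) q) = Nat.card (EtCoh.H X F q) := by
  haveI := EtPullExact.pull_preservesFiniteLimits f
  exact Nat.card_eq_of_bijective _ (EtMV.HofPush_bijective f F (fun m => EtIntegral.Rpush_succ_isZero f F m) q)

theorem card_H_of_iso' {F G : EtCoh.Ab X} (e : F ≅ G) (q : ℕ) :
    Nat.card (EtCoh.H X F q) = Nat.card (EtCoh.H X G q) :=
  Nat.card_congr ((EtCoh.HF X q).mapIso e).addCommGroupIsoToAddEquiv.toEquiv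

variable {k : Type u} [Field k] [IsAlgClosed k] {ℓ : ℕ} [hℓ : Fact ℓ.Prime]

/-- integral proper curves -/
theorem card_H2_integral (C : Scheme.{u}) (c : C ⟶ Spec (CommRingCat.of k)) [IsProper c] [IsIntegral C]
    (hdim : topologicalKrullDim C ≤ 1) (hne : ¬ IsClosed ({genericPoint C} : Set C)) (hℓk : (ℓ : k) ≠ 0) :
    Nat.card (EtCoh.H C (EtCoh.const C (ZMod ℓ)) 2) = ℓ := by
  classical
  haveI : IsNoetherian C := EtPBC.isNoetherian_of_field c
  have hsep : ∀ x : C, IsClosed ({x} : Set C) → IsSepClosed (C.residueField x) :=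
    fun x hx => isSepClosed_of_isClosed c x hx
  have hdimC : topologicalKrullDim C = 1 := by
    refine le_antisymm hdim ?_
    refine le_trans ?_ (topologicalKrullDim_subspace_le C (closure ({genericPoint C} : Set C)))
    letI := specializationOrder C
    rw [BMCoh.topologicalKrullDim_closure_singleton,
      show Order.height (genericPoint C) = _ from (WeilLib.exists_pdim_eq_trd c (genericPoint C)).2]
    exact_mod_cast Nat.one_le_iff_ne_zero.2 fun h0 => hne ((WeilLib.pdim_eq_zero_iff c _).1 h0)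
  letI : C.Over (Spec (CommRingCat.of k)) := ⟨c⟩
  haveI : IsProper (C ↘ Spec (CommRingCat.of k)) := inferInstanceAs (IsProper c)
  letI : Field (C.presheaf.stalk (genericPoint C)) := inferInstanceAs (Field C.functionField)
  let g := C.fromSpecStalk (genericPoint C)
  haveI : QuasiCompact (g ≫ c) := inferInstance
  haveI : QuasiSeparated (g ≫ c) := inferInstance
  haveI : QuasiCompact g := QuasiCompact.of_comp g c
  haveI : QuasiSeparated g := QuasiSeparated.of_comp g c
  obtain ⟨hfin, hnorm, hdimN⟩ := Groth.Agent.S4454.result k C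
    (fun x hx => W7Nef.ringKrullDim_stalk_of_isClosed hdimC hx)
    C.functionField (RingHom.id _) (RingHom.Finite.id _) g (by
      rw [show CommRingCat.ofHom (RingHom.id C.functionField) = 𝟙 _ from rfl]
      exact ((congrArg (· ≫ g) (Spec.map_id _)).trans (Category.id_comp g)).symm)
  haveI : IsFinite (Curv2.normalizationι C) := hfin
  haveI : IsIntegral (Spec (CommRingCat.of C.functionField)) := inferInstance
  let X := g.normalization
  let ν : X ⟶ C := g.fromNormalization
  haveI : IsFinite ν := hfin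
  haveI : LocallyOfFinitePresentation ν := InfLift.lfp_of_lft ν
  haveI : IsIntegral X := inferInstanceAs (IsIntegral g.normalization)
  haveI : IsProper (ν ≫ c) := inferInstance
  haveI : LocallyOfFiniteType (ν ≫ c) := inferInstance
  haveI : IsNoetherian X := EtPBC.isNoetherian_of_field (ν ≫ c)
  obtain ⟨D, hD, hDiso⟩ := BMCoh.exists_isIso_normalizationι C
  haveI : IsIso (ν ∣_ D) := hDiso
  have hηD : genericPoint C ∈ D := (genericPoint_specializes (hD.some)).mem_open D.2 hD.some_mem
  obtain ⟨w₀, hw₀⟩ := (asIso (ν ∣_ D)).hom.surjective ⟨genericPoint C, hηD⟩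
  let w₁ : X := (ν ⁻¹ᵁ D).ι w₀
  have hw₁ : ν w₁ = genericPoint C := by
    rw [← Scheme.Hom.comp_apply, ← morphismRestrict_ι, Scheme.Hom.comp_apply]
    exact congrArg D.ι hw₀
  have hdimX : topologicalKrullDim X = 1 := by
    have hsurj : Surjective ν := by
      refine ⟨fun z => ?_⟩
      have hclosed : IsClosed (Set.range ν) := ν.isClosedMap.isClosed_range
      exact (genericPoint_specializes z).mem_closed hclosed ⟨w₁, hw₁⟩
    exact ((S9683.result ν).2 hsurj).trans hdimC
  haveI : Smooth (ν ≫ c) := Castel.smooth_of_regular_stalks (ν ≫ c) fun x => by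
    haveI := (hnorm x).1
    haveI := (hnorm x).2
    exact Catenary.isRegularLocalRing_of_normal ((RegDual.ringKrullDim_stalk_le_topologicalKrullDim x).trans hdimX.le)
  letI : X.Over (Spec (CommRingCat.of k)) := ⟨ν ≫ c⟩
  have hX : Curve.IsSmoothProperCurve k X (X ↘ Spec (CommRingCat.of k)) :=
    ⟨inferInstanceAs (IsProper (ν ≫ c)), inferInstanceAs (Smooth (ν ≫ c)), inferInstance, hdimX⟩
  obtain ⟨e2⟩ := nonempty_H2_zmod_proper hX hℓ.out.one_le hℓk
  let e := (EtCoh.pullPushAdj ν).unit.app (EtCoh.const C (ZMod ℓ))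
  have hiso : ∀ x : C, ¬ IsClosed ({x} : Set C) → IsoAt e x := by
    intro x hx
    obtain rfl : x = genericPoint C := (isMaxPt_of_not_closed hdim hx _ (genericPoint_specializes x)).symm
    obtain ⟨Ω, _, _, ζ, hζ⟩ := exists_geomPt (X := (ν ⁻¹ᵁ D : Scheme.{u})) w₀
    haveI : IsOpenImmersion ((ν ⁻¹ᵁ D).ι ≫ ν) := by rw [← morphismRestrict_ι]; infer_instance
    have hb := bijective_stalk_unit ν (EtCoh.const C (ZMod ℓ)) (ζ ≫ (ν ⁻¹ᵁ D).ι)
      (injective_stalkPushHom_of_open ν (ν ⁻¹ᵁ D).ι (fun γ hγ => by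
        rw [Scheme.Opens.range_ι]
        obtain ⟨t, ht⟩ := hγ
        show ν γ ∈ D
        rw [← ht]
        exact t.2) ζ _)
    refine (isoAt_iff ?_ _).2 hb
    show ν ((ν ⁻¹ᵁ D).ι (ζ default)) = genericPoint C
    rw [hζ]
    exact hw₁
  refine (card_H_eq_of_isoAt hsep e hiso 2 le_rfl).trans ?_
  show Nat.card (EtCoh.H C ((EtCoh.push ν).obj ((EtCoh.pull ν).obj (EtCoh.const C (ZMod ℓ)))) 2) = ℓ
  rw [card_H_push, card_H_of_iso' (EtCons.pullConstM ν (ZMod ℓ)), Nat.card_congr e2.toEquiv, Nat.card_zmod]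

/-- **`H²` counts the one-dimensional components** -/
theorem card_H2_proper_curve (f : X ⟶ Spec (CommRingCat.of k)) [IsProper f] (hdim : topologicalKrullDim X ≤ 1)
    (hℓk : (ℓ : k) ≠ 0) :
    Nat.card (EtCoh.H X (EtCoh.const X (ZMod ℓ)) 2) = ℓ ^ Nat.card {x : X // IsMaxPt x ∧ ¬ IsClosed ({x} : Set X)} := by
  classical
  let G := EtCoh.const X (ZMod ℓ)
  have hfin : {x : X | IsMaxPt x}.Finite := finite_isMaxPt X
  let M := Fin hfin.toFinset.card
  let p : M → X := fun i => (hfin.toFinset.equivFin.symm i).1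
  have hpmax : ∀ i, IsMaxPt (p i) := fun i => hfin.mem_toFinset.1 (hfin.toFinset.equivFin.symm i).2
  have hpinj : Function.Injective p := fun a b h => hfin.toFinset.equivFin.symm.injective (Subtype.ext h)
  let K : M → Closeds X := fun i => ⟨closure {p i}, isClosed_closure⟩
  let Z : M → Scheme.{u} := fun i => (Scheme.IdealSheafData.vanishingIdeal (K i)).subscheme
  let ι : ∀ i, Z i ⟶ X := fun i => (Scheme.IdealSheafData.vanishingIdeal (K i)).subschemeι
  have hr : ∀ i, Set.range (ι i) = closure {p i} := fun i => by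
    show Set.range (Scheme.IdealSheafData.vanishingIdeal (K i)).subschemeι = _
    rw [Scheme.IdealSheafData.range_subschemeι, Scheme.IdealSheafData.coe_support_vanishingIdeal]
    rfl
  have hZ : ∀ i, IsIntegral (Z i) := fun i => by
    haveI : IsReduced (Z i) := DvrDom.isReduced_vanishingIdeal_subscheme (K i)
    haveI : IrreducibleSpace (Z i) := by
      haveI : IrreducibleSpace (Set.range (ι i)) :=
        Subtype.irreducibleSpace (hr i ▸ isIrreducible_singleton.closure)
      exact ((ι i).isClosedEmbedding.isEmbedding.toHomeomorph.irreducibleSpace_iff).2 inferInstance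
    exact isIntegral_of_irreducibleSpace_of_isReduced (Z i)
  let A : M → EtCoh.Ab X := fun i => (EtCoh.push (ι i)).obj ((EtCoh.pull (ι i)).obj G)
  have hgen : ∀ i, haveI := hZ i; ι i (genericPoint (Z i)) = p i := fun i => by
    haveI := hZ i
    have h1 : IsGenericPoint (ι i (genericPoint (Z i))) (closure (ι i '' Set.univ)) :=
      (genericPoint_spec (Z i)).image (ι i).continuous
    rw [Set.image_univ, hr i, closure_closure] at h1
    exact h1.eq (isGenericPoint_closure)
  have hdimZ : ∀ i, topologicalKrullDim (Z i) ≤ 1 := fun i =>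
    ((ι i).isEmbedding.isInducing.topologicalKrullDim_le).trans hdim
  have hA : ∀ i, Nat.card (EtCoh.H X (A i) 2) = if IsClosed ({p i} : Set X) then 1 else ℓ := fun i => by
    haveI := hZ i
    haveI : IsNoetherian (Z i) := EtPBC.isNoetherian_of_field (ι i ≫ f)
    show Nat.card (EtCoh.H X ((EtCoh.push (ι i)).obj ((EtCoh.pull (ι i)).obj G)) 2) = _
    rw [card_H_push, card_H_of_iso' (EtCons.pullConstM (ι i) (ZMod ℓ))]
    split_ifs with hc
    · have hall : ∀ z : Z i, IsClosed ({z} : Set (Z i)) := fun z => by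
        have hz : ι i z ∈ closure ({p i} : Set X) := hr i ▸ ⟨z, rfl⟩
        rw [hc.closure_eq] at hz
        have : ({z} : Set (Z i)) = ι i ⁻¹' {p i} := Set.ext fun w => by
          refine ⟨fun h => h ▸ hz, fun h => (ι i).isEmbedding.injective (Eq.trans h hz.symm)⟩
        rw [this]
        exact hc.preimage (ι i).continuous
      haveI := subsingleton_H_of_suppClosed (fun x hx => isSepClosed_of_isClosed (ι i ≫ f) x hx)
        (EtCoh.const (Z i) (ZMod ℓ)) (fun x hx => absurd (hall x) hx) 2 (by norm_num)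
      exact Nat.card_unique
    · refine card_H2_integral (Z i) (ι i ≫ f) (hdimZ i) (fun h => hc ?_) hℓk
      have h2 := (ι i).isClosedEmbedding.isClosedMap _ h
      rwa [Set.image_singleton, hgen] at h2
  let ψ : G ⟶ ⨁ A := biproduct.lift fun i => (EtCoh.pullPushAdj (ι i)).unit.app G
  have hiso : ∀ x : X, ¬ IsClosed ({x} : Set X) → IsoAt ψ x := fun x hx => by
    let i : M := hfin.toFinset.equivFin ⟨x, hfin.mem_toFinset.2 (isMaxPt_of_not_closed hdim hx)⟩
    have hi : p i = x := by simp [p, i]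
    have hxi : x ∈ closure {p i} := by rw [hi]; exact subset_closure rfl
    obtain ⟨z, hz⟩ : x ∈ Set.range (ι i) := by rw [hr]; exact hxi
    obtain ⟨Ω, _, _, ξ, hξ, hb⟩ := bijective_stalk_unit_at (ι i) (EtPushStalk.liftProp_of_closedImmersion (ι i)) G z hz
    have hπ := stalk_biproduct_π_bijective A i (x := x) (fun a ha => zeroAt_push_of_zeroAt (ι a) _
      (isLTorsion_univ_of_killed hℓ.out.pos (killed_pull (ι a) (killed_const X ℓ))) x fun w hw => absurd ?_ ha) hξ
    · rw [isoAt_iff hξ]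
      refine (Function.Bijective.of_comp_iff' hπ _).1 ?_
      have hh : Function.Bijective ((EtCoh.stalk ξ).map ψ ≫ (EtCoh.stalk ξ).map (biproduct.π A i)) := by
        rw [← Functor.map_comp, biproduct.lift_π]
        exact hb
      exact hh
    · have h1 : x ∈ closure {p a} := hr a ▸ ⟨w, hw⟩
      exact hpinj (hi ▸ isMaxPt_of_not_closed hdim hx _ (specializes_iff_mem_closure.2 h1))
  rw [card_H_eq_of_isoAt (fun x hx => isSepClosed_of_isClosed f x hx) ψ hiso 2 le_rfl, card_H_biproduct A 2]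
  simp only [hA]
  rw [Finset.prod_ite, Finset.prod_const_one, one_mul, Finset.prod_const]
  congr 1
  rw [← Nat.card_eq_finsetCard]
  refine Nat.card_eq_of_bijective (fun i => ⟨p i.1, hpmax i.1, (Finset.mem_filter.1 i.2).2⟩)
    ⟨fun a b h => Subtype.ext (hpinj (congrArg (fun t : {x : X // IsMaxPt x ∧ ¬ IsClosed ({x} : Set X)} => t.1) h)), fun x => ?_⟩
  let i : M := hfin.toFinset.equivFin ⟨x.1, hfin.mem_toFinset.2 x.2.1⟩
  have hi : p i = x.1 := by simp [p, i]
  exact ⟨⟨i, Finset.mem_filter.2 ⟨Finset.mem_univ _, hi ▸ x.2.2⟩⟩, Subtype.ext hi⟩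

end Groth.Agent.EtConsPush
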