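import Groth.Agent.SepClosedNormal.Basic
import Groth.Agent.EtPBC.NormalAlgClosed
import Mathlib

/-!
# Normal strictly henselian local domains over an integral scheme
-/

set_option autoImplicit false
set_option backward.isDefEq.respectTransparency false
set_option backward.isDefEq.respectTransparency.types false
set_option linter.style.haveILetI false

universe u

open CategoryTheory AlgebraicGeometry IsLocalRing

noncomputable section

namespace Groth.Agent.EtConsPush

theorem isSepClosed_fractionRing (B : Type u) [CommRing B] [IsDomain B] (K : Type u) [Field K] [IsSepClosed K]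
    [Algebra B K] [IsFractionRing B K] : IsSepClosed (FractionRing B) :=
  Hensel.isSepClosed_of_ringEquiv (FractionRing.algEquiv B K).toRingEquiv.symm

/-- local rings of integrally closed domains with separably closed fraction field -/
theorem exists_local_strict (C : Type u) [CommRing C] [IsDomain C] [IsIntegrallyClosed C] (Q : Ideal C) [Q.IsPrime]
    (K : Type u) [Field K] [IsSepClosed K] [Algebra C K] [IsFractionRing C K] :
    ∃ (B : Type u) (_ : CommRing B) (_ : IsDomain B) (_ : IsIntegrallyClosed B) (_ : HenselianLocalRing B)
      (_ : IsSepClosed (ResidueField B)) (_ : Algebra B K) (_ : IsFractionRing B K) (ψ : C →+* B),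
      (algebraMap B K).comp ψ = algebraMap C K ∧ (maximalIdeal B).comap ψ = Q := by
  let B := Localization.AtPrime Q
  have hle : Q.primeCompl ≤ nonZeroDivisors C := Q.primeCompl_le_nonZeroDivisors
  haveI : IsDomain B := IsLocalization.isDomain_of_atPrime _ Q
  haveI : IsIntegrallyClosed B := isIntegrallyClosed_of_isLocalization B Q.primeCompl hle
  letI : Algebra B K := (IsLocalization.lift (M := Q.primeCompl) (g := algebraMap C K) (fun y =>
    IsLocalization.map_units K (⟨y.1, hle y.2⟩ : nonZeroDivisors C))).toAlgebra
  haveI : IsScalarTower C B K := IsScalarTower.of_algebraMap_eq' (IsLocalization.lift_comp _).symm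
  haveI : IsFractionRing B K := IsFractionRing.isFractionRing_of_isDomain_of_isLocalization Q.primeCompl B K
  haveI : IsSepClosed (FractionRing B) := isSepClosed_fractionRing B K
  haveI : HenselianLocalRing B := Groth.Agent.SepClosedNormal.henselianLocalRing
  haveI : IsSepClosed (ResidueField B) := Groth.Agent.SepClosedNormal.isSepClosed_residueField
  exact ⟨B, inferInstance, inferInstance, inferInstance, inferInstance, inferInstance, inferInstance, inferInstance,
    algebraMap C B, (IsScalarTower.algebraMap_eq C B K).symm, Localization.AtPrime.comap_maximalIdeal⟩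

/-- every point of an integral scheme is the image of the closed point of a normal strictly henselian
local domain with algebraically closed fraction field whose generic point goes to the generic point -/
theorem exists_normal_strict {T : Scheme.{u}} [IsIntegral T] (s : T) :
    ∃ (B : Type u) (_ : CommRing B) (_ : IsDomain B) (_ : IsIntegrallyClosed B) (_ : HenselianLocalRing B)
      (_ : IsSepClosed (ResidueField B)) (K : Type u) (_ : Field K) (_ : IsAlgClosed K) (_ : Algebra B K)
      (_ : IsFractionRing B K) (c : Spec (CommRingCat.of B) ⟶ T),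
      c (closedPoint B) = s ∧
      c (Spec.map (CommRingCat.ofHom (algebraMap B K)) (closedPoint K)) = genericPoint T := by
  obtain ⟨V, hV, hsV, -⟩ := exists_isAffineOpen_mem_and_subset (X := T) (x := s) (U := ⊤) trivial
  haveI : Nonempty V := ⟨⟨s, hsV⟩⟩
  let A : Type u := Γ(T, V)
  let p := hV.primeIdealOf ⟨s, hsV⟩
  let K := AlgebraicClosure (FractionRing A)
  have hinjK : Function.Injective (algebraMap A K) := by
    rw [IsScalarTower.algebraMap_eq A (FractionRing A) K]
    exact (algebraMap (FractionRing A) K).injective.comp (IsFractionRing.injective A (FractionRing A))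
  haveI : Algebra.IsAlgebraic A K :=
    (IsFractionRing.comap_isAlgebraic_iff (A := A) (K := FractionRing A) (C := K)).2 inferInstance
  let C := integralClosure A K
  haveI : IsFractionRing C K :=
    integralClosure.isFractionRing_of_algebraic (A := A) (L := K) fun x hx =>
      hinjK (hx.trans (map_zero _).symm)
  haveI : IsIntegrallyClosedIn C K := inferInstance
  haveI : IsIntegrallyClosed C := (isIntegrallyClosed_iff_isIntegrallyClosedIn K).2 inferInstance
  have hinjC : Function.Injective (algebraMap A C) := fun a b h => hinjK (congrArg Subtype.val h)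
  obtain ⟨⟨Q, hQ, hQp⟩⟩ : Nonempty {Q : Ideal C // Q.IsPrime ∧ Q.comap (algebraMap A C) = p.asIdeal} := by
    obtain ⟨Q, -, hQ, hQp⟩ := Ideal.exists_ideal_over_prime_of_isIntegral (S := C) p.asIdeal ⊥ (by
      rw [← RingHom.ker_eq_comap_bot, (RingHom.injective_iff_ker_eq_bot _).1 hinjC]
      exact bot_le)
    exact ⟨⟨Q, hQ, hQp⟩⟩
  obtain ⟨B, _, _, _, _, _, _, _, ψ, hψK, hψQ⟩ := exists_local_strict C Q K
  let φ : A →+* B := ψ.comp (algebraMap A C)
  refine ⟨B, inferInstance, inferInstance, inferInstance, inferInstance, inferInstance, K, inferInstance,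
    inferInstance, inferInstance, inferInstance, Spec.map (CommRingCat.ofHom φ) ≫ hV.fromSpec, ?_, ?_⟩
  · rw [Scheme.Hom.comp_apply]
    have : Spec.map (CommRingCat.ofHom φ) (closedPoint B) = p := by
      refine PrimeSpectrum.ext ?_
      show Ideal.comap φ (maximalIdeal B) = _
      rw [← Ideal.comap_comap, hψQ]
      exact hQp
    rw [this]
    exact hV.fromSpec_primeIdealOf ⟨s, hsV⟩
  · rw [← Scheme.Hom.comp_apply, ← Category.assoc, ← Spec.map_comp, Scheme.Hom.comp_apply]
    have h0 : Spec.map (CommRingCat.ofHom φ ≫ CommRingCat.ofHom (algebraMap B K)) (closedPoint K) =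
        (⊥ : PrimeSpectrum A) := by
      refine PrimeSpectrum.ext ?_
      show Ideal.comap ((algebraMap B K).comp φ) (maximalIdeal K) = ⊥
      rw [IsLocalRing.isField_iff_maximalIdeal_eq.1 (Field.toIsField K), ← RingHom.ker_eq_comap_bot,
        ← RingHom.injective_iff_ker_eq_bot]
      intro a b h
      refine hinjK ?_
      rw [IsScalarTower.algebraMap_apply A C K a, IsScalarTower.algebraMap_apply A C K b, ← hψK]
      exact h
    rw [h0]
    have hg : IsGenericPoint (hV.fromSpec (⊥ : PrimeSpectrum A)) Set.univ := by
      haveI : IsDomain Γ(T, V) := inferInstance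
      have h1 := (genericPoint_spec (Spec Γ(T, V))).image hV.fromSpec.continuous
      rw [genericPoint_eq_bot_of_affine, Set.image_univ, hV.range_fromSpec] at h1
      have hd : Dense (V : Set T) := V.2.dense ⟨s, hsV⟩
      rw [hd.closure_eq] at h1
      exact h1
    exact hg.eq (genericPoint_spec T)

end Groth.Agent.EtConsPush
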