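import Groth.Agent.EtConsPush.Normal
import Groth.Agent.EtConsPush.CurveH2
import Groth.Agent.EtConsPush.Count
import Groth.Agent.EtConsPush.Point
import Groth.Agent.EtCons.Cards
import Groth.Agent.EtPBC.GeomPt
import Groth.Agent.EtPBC.RelDimBound
import Groth.Agent.GenULoc.Main
import Groth.Agent.S3096
import Mathlib

/-!
# Higher direct images of constant sheaves along proper families of curves are constructible
-/

set_option autoImplicit false
set_option backward.isDefEq.respectTransparency false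
set_option backward.isDefEq.respectTransparency.types false
set_option linter.auxLemma false
set_option linter.style.haveILetI false
set_option linter.unusedSectionVars false
set_option maxHeartbeats 1000000

universe u

open CategoryTheory CategoryTheory.Limits CategoryTheory.Abelian AlgebraicGeometry Opposite TopologicalSpace IsLocalRing

noncomputable section

namespace Groth.Agent.EtConsPush

open Groth.Agent.EtPBC

attribute [local instance 100000] EtCoh.H._proof_1 EtMV.hext
attribute [local instance 200000] EtMV.hextAb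

variable (ℓ : ℕ) [hℓ : Fact ℓ.Prime] (q : ℕ)

/-- the order of `H^q(-, ℤ/ℓ)` of the fibre over a field valued point -/
def cardH {Y T Z : Scheme.{u}} (g : Y ⟶ T) (ξ : Z ⟶ T) : ℕ :=
  Nat.card (EtCoh.H (pullback g ξ) (EtCoh.const _ (ZMod ℓ)) q)

theorem card_H_const_of_iso {X X' : Scheme.{u}} (e : X ⟶ X') [IsIso e] :
    Nat.card (EtCoh.H X (EtCoh.const X (ZMod ℓ)) q) = Nat.card (EtCoh.H X' (EtCoh.const X' (ZMod ℓ)) q) := by
  haveI := EtPullExact.pull_preservesFiniteLimits e
  rw [Nat.card_congr (Equiv.ofBijective _ (bijective_Hpull_of_isIso e (EtCoh.const X' (ZMod ℓ)) q)),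
    card_H_congr (EtCons.pullConstM e (ZMod ℓ)) q]

variable {Y T : Scheme.{u}} (g : Y ⟶ T) [IsProper g]

theorem isLTorsion_const (X : Scheme.{u}) : EtAcyc.IsLTorsion Set.univ (EtCoh.const X (ZMod ℓ)) :=
  isLTorsion_univ_of_killed hℓ.out.pos (killed_const X ℓ)

theorem card_stalk {Ω : Type u} [Field Ω] [IsSepClosed Ω] (ξ : Spec (CommRingCat.of Ω) ⟶ T) :
    Nat.card ((EtCoh.stalk ξ).obj ((EtCoh.Rpush g q).obj (EtCoh.const Y (ZMod ℓ)))) = cardH ℓ q g ξ := by
  obtain ⟨e⟩ := nonempty_stalk_Rpush_iso g ξ (EtCoh.const Y (ZMod ℓ)) (isLTorsion_const ℓ Y) q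
  rw [Nat.card_congr e.addCommGroupIsoToAddEquiv.toEquiv]
  exact card_H_congr (EtCons.pullConstM (pullback.fst g ξ) (ZMod ℓ)) q

theorem geomPt_default (s : T) :
    GeomFib.geomPt s (default : ↥(Spec (CommRingCat.of (AlgebraicClosure (T.residueField s))))) = s := by
  rw [Subsingleton.elim (α := ↥(Spec (CommRingCat.of (AlgebraicClosure (T.residueField s)))))
    default (closedPoint _)]
  exact GeomFib.fromSpecResidueField_geomPt s

variable (hdim : ∀ t : T, topologicalKrullDim (g.fiber t) ≤ ((1 : ℕ) : WithBot ℕ∞))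

include hdim in
theorem finite_H_fibre {Ω : Type u} [Field Ω] [IsAlgClosed Ω] (ξ : Spec (CommRingCat.of Ω) ⟶ T) :
    Finite (EtCoh.H (pullback g ξ) (EtCoh.const _ (ZMod ℓ)) q) :=
  finite_H_const (pullback g ξ) (pullback.snd g ξ)
    (by simpa using topologicalKrullDim_geomFibre_le g hdim ξ) ⟨hℓ.out.pos, Or.inl inferInstance⟩ q

theorem cardH_algClosure {Ω : Type u} [Field Ω] [IsSepClosed Ω] (ξ : Spec (CommRingCat.of Ω) ⟶ T) :
    cardH ℓ q g ξ = cardH ℓ q g (Spec.map (CommRingCat.ofHom (algebraMap Ω (AlgebraicClosure Ω))) ≫ ξ) := by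
  obtain ⟨e, he, hsq⟩ := GeomFib.exists_bc g ξ
    (Spec.map (CommRingCat.ofHom (algebraMap Ω (AlgebraicClosure Ω))) ≫ ξ) rfl
  haveI := EtPullExact.pull_preservesFiniteLimits e
  refine (Nat.card_congr (Equiv.ofBijective _ (bijective_Hpull_sepClosed (algebraMap Ω (AlgebraicClosure Ω))
    (pullback.snd g ξ) e _ hsq (EtCoh.const _ (ZMod ℓ)) (isLTorsion_const ℓ _) q))).trans ?_
  exact card_H_congr (EtCons.pullConstM e (ZMod ℓ)) q

include hdim in
theorem cardH_pos {Ω : Type u} [Field Ω] [IsSepClosed Ω] (ξ : Spec (CommRingCat.of Ω) ⟶ T) :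
    0 < cardH ℓ q g ξ := by
  rw [cardH_algClosure]
  haveI := finite_H_fibre ℓ q g hdim (Spec.map (CommRingCat.ofHom (algebraMap Ω (AlgebraicClosure Ω))) ≫ ξ)
  exact Nat.card_pos

include hdim in
/-- only the image of a separably closed point matters -/
theorem cardH_eq_of_eq {Ω Ω' : Type u} [Field Ω] [IsSepClosed Ω] [Field Ω'] [IsSepClosed Ω'] [IsLocallyNoetherian T]
    (ξ : Spec (CommRingCat.of Ω) ⟶ T) (ξ' : Spec (CommRingCat.of Ω') ⟶ T)
    (h : ξ (default : ↥(Spec (CommRingCat.of Ω))) = ξ' (default : ↥(Spec (CommRingCat.of Ω')))) :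
    cardH ℓ q g ξ = cardH ℓ q g ξ' := by
  rw [← card_stalk ℓ q g ξ, ← card_stalk ℓ q g ξ']
  exact EtCons.card_stalk_eq_of_eq _ (fun Ω₀ _ _ ξ₀ => Nat.finite_of_card_ne_zero
    (by rw [card_stalk]; exact (cardH_pos ℓ q g hdim ξ₀).ne')) ξ ξ' h

include hdim in
theorem cardH_eq_geomPt [IsLocallyNoetherian T] {Ω : Type u} [Field Ω] [IsSepClosed Ω]
    (ξ : Spec (CommRingCat.of Ω) ⟶ T) {s : T} (h : ξ (default : ↥(Spec (CommRingCat.of Ω))) = s) :
    cardH ℓ q g ξ = cardH ℓ q g (GeomFib.geomPt s) :=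
  cardH_eq_of_eq ℓ q g hdim ξ _ (h.trans (geomPt_default s).symm)

include hdim in
/-- semicontinuity over an integral base -/
theorem exists_open_card_le [IsIntegral T] [AlgebraicGeometry.IsNoetherian T] :
    ∃ O : T.Opens, genericPoint T ∈ O ∧
      ∀ s ∈ O, cardH ℓ q g (GeomFib.geomPt s) ≤ cardH ℓ q g (GeomFib.geomPt (genericPoint T)) := by
  have hd : ∀ s : T, topologicalKrullDim ↥(pullback g (GeomFib.geomPt s)) ≤ 1 := fun s => by
    simpa using topologicalKrullDim_geomFibre_le g hdim (GeomFib.geomPt s)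
  have hpos : ∀ s : T, 0 < cardH ℓ q g (GeomFib.geomPt s) := fun s => cardH_pos ℓ q g hdim _
  by_cases h3 : 3 ≤ q
  · refine ⟨⊤, trivial, fun s _ => ?_⟩
    haveI := subsingleton_H_proper (pullback.snd g (GeomFib.geomPt s)) 1 (by simpa using hd s)
      (EtCoh.const _ (ZMod ℓ)) (isLTorsion_const ℓ _) q (by omega)
    rw [show cardH ℓ q g (GeomFib.geomPt s) = 1 from Nat.card_unique]
    exact hpos _
  by_cases h2 : q = 2
  · subst h2
    by_cases h0 : (ℓ : Γ(T, ⊤)) = 0
    · refine ⟨⊤, trivial, fun s _ => ?_⟩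
      let ξ := GeomFib.geomPt s
      let a := pullback.snd g ξ
      have hz : (ℓ : Γ(Spec (CommRingCat.of (AlgebraicClosure (T.residueField s))), ⊤)) = 0 := by
        rw [← map_natCast ξ.appTop.hom, h0, map_zero]
      have h1 : IsZero ((EtCoh.Rpush a 2).obj (EtCoh.const _ (ZMod ℓ))) := by
        refine Groth.Agent.S3096.result a ℓ hℓ.out hz 1 (fun t => ?_) _ (fun U x => ⟨1, ?_⟩) 2 (by norm_num)
        · exact ((a.fiberι t).isEmbedding.isInducing.topologicalKrullDim_le).trans (by simpa using hd s)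
        · rw [pow_one]; exact EtPBC.killed_const _ ℓ U x
      obtain ⟨e⟩ := nonempty_stalk_Rpush_iso a (𝟙 _) (EtCoh.const _ (ZMod ℓ)) (isLTorsion_const ℓ _) 2
      have h4 : Nat.card (EtCoh.H (pullback a (𝟙 (Spec (CommRingCat.of (AlgebraicClosure (T.residueField s))))))
          (EtCoh.const _ (ZMod ℓ)) 2) = 1 := by
        rw [← card_H_congr (EtCons.pullConstM (pullback.fst a (𝟙 _)) (ZMod ℓ)) 2,
          ← Nat.card_congr e.addCommGroupIsoToAddEquiv.toEquiv]
        haveI := AddCommGrpCat.subsingleton_of_isZero ((EtCoh.stalk (X := Spec (CommRingCat.of (AlgebraicClosure (T.residueField s))))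
          (𝟙 (Spec (CommRingCat.of (AlgebraicClosure (T.residueField s)))))).map_isZero h1)
        exact Nat.card_unique
      rw [show cardH ℓ 2 g ξ = 1 from (card_H_const_of_iso ℓ 2 (pullback.fst a (𝟙 _))).symm.trans h4]
      exact hpos _
    · obtain ⟨O, N, hO, hN⟩ := exists_open_card_components g
      let O' : T.Opens := T.basicOpen (ℓ : Γ(T, ⊤))
      have hO' : genericPoint T ∈ O' := by
        rw [Scheme.mem_basicOpen_top]
        refine isUnit_iff_ne_zero.2 fun h => h0 (germ_injective_of_isIntegral T (genericPoint T) (U := ⊤) trivial ?_)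
        rw [map_zero]
        exact h
      have key : ∀ s ∈ O ⊓ O', cardH ℓ 2 g (GeomFib.geomPt s) = ℓ ^ N := fun s hs => by
        have hs' : IsUnit ((ℓ : T.residueField s)) := by
          have := ((Scheme.mem_basicOpen_top _ _ s).1 hs.2).map (T.residue s).hom
          rwa [map_natCast, map_natCast] at this
        have hk : ((ℓ : AlgebraicClosure (T.residueField s))) ≠ 0 := by
          rw [← map_natCast (algebraMap (T.residueField s) (AlgebraicClosure (T.residueField s)))]
          exact (hs'.map _).ne_zero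
        haveI : AlgebraicGeometry.IsNoetherian (pullback g (GeomFib.geomPt s)) :=
          EtPBC.isNoetherian_of_field (pullback.snd g (GeomFib.geomPt s))
        show Nat.card _ = _
        rw [card_H2_proper_curve (pullback.snd g (GeomFib.geomPt s)) (hd s) hk, hN s hs.1]
      exact ⟨O ⊓ O', ⟨hO, hO'⟩, fun s hs => by rw [key s hs, key _ ⟨hO, hO'⟩]⟩
  have hq : q ≤ 1 := by omega
  obtain ⟨O, hOd, hgood⟩ := GenULoc.exists_dense_good g
  have hηO : genericPoint T ∈ O := by
    obtain ⟨u', hu'⟩ := hOd.nonempty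
    exact (genericPoint_specializes u').mem_open O.2 hu'
  refine ⟨O, hηO, fun s hs => ?_⟩
  obtain ⟨B, _, _, _, _, _, K, _, _, _, _, c, hcs, hcη⟩ := exists_normal_strict s
  let gB := pullback.snd g c
  have hrange : Set.range c ⊆ (O : Set T) := by
    rintro _ ⟨z, rfl⟩
    exact (IsLocalRing.specializes_closedPoint z |>.map c.continuous).mem_open O.2 (hcs ▸ hs)
  have hgB : EtAcyc.IsULocZeroAcyclic gB := GenULoc.uloc_of_range hgood hrange (IsPullback.of_hasPullback g c)
  let r := Spec.map (CommRingCat.ofHom (residue B))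
  let η := Spec.map (CommRingCat.ofHom (algebraMap B K))
  have er : ∀ {Z : Scheme.{u}} (p : Z ⟶ Spec (CommRingCat.of B)),
      Nat.card (EtCoh.H (pullback gB p) (EtCoh.const _ (ZMod ℓ)) q) = cardH ℓ q g (p ≫ c) := fun p =>
    card_H_const_of_iso ℓ q (pullbackLeftPullbackSndIso g c p).hom
  have hr : cardH ℓ q g (r ≫ c) = cardH ℓ q g (GeomFib.geomPt s) := by
    refine cardH_eq_geomPt ℓ q g hdim (r ≫ c) ?_
    rw [Scheme.Hom.comp_apply, ← hcs]
    congr 1
    rw [Subsingleton.elim (α := ↥(Spec (CommRingCat.of (ResidueField B)))) default (closedPoint _)]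
    exact IsLocalRing.comap_closedPoint (residue B)
  have hη : cardH ℓ q g (η ≫ c) = cardH ℓ q g (GeomFib.geomPt (genericPoint T)) := by
    refine cardH_eq_geomPt ℓ q g hdim (η ≫ c) ?_
    rw [Scheme.Hom.comp_apply, Subsingleton.elim (α := ↥(Spec (CommRingCat.of K))) default (closedPoint K)]
    exact hcη
  haveI : Finite (EtCoh.H (pullback gB η) (EtCoh.const _ (ZMod ℓ)) q) := by
    refine Nat.finite_of_card_ne_zero ?_
    rw [er η, hη]
    exact (hpos _).ne'
  rw [← hr, ← hη, ← er r, ← er η]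
  exact card_closed_le_generic K gB hgB (ZMod ℓ) (isLTorsion_const ℓ _) q hq

omit [IsProper g] in
theorem fiber_dim_baseChange [LocallyOfFiniteType g] {n : ℕ} (hn : ∀ t : T, topologicalKrullDim (g.fiber t) ≤ n)
    {T' : Scheme.{u}} (c : T' ⟶ T) (t : T') : topologicalKrullDim ((pullback.snd g c).fiber t) ≤ n :=
  ((pullbackLeftPullbackSndIso g c (T'.fromSpecResidueField t)).hom.homeomorph.isHomeomorph.topologicalKrullDim_eq
    _).le.trans (topologicalKrullDim_geomFibre_le g hn (T'.fromSpecResidueField t ≫ c))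

include hdim in
/-- **higher direct images of constant sheaves along proper families of curves are constructible** -/
theorem isConstructible_Rpush_const [AlgebraicGeometry.IsNoetherian T] :
    EtPBC.IsConstructible ((EtCoh.Rpush g q).obj (EtCoh.const Y (ZMod ℓ))) := by
  refine EtCons.isConstructible_of_card_le _ (fun Ω _ _ ξ => Nat.finite_of_card_ne_zero ?_) ?_
  · rw [card_stalk]
    exact (cardH_pos ℓ q g hdim ξ).ne'
  intro x T₁ j _ t₁ hjt ht
  haveI : IsLocallyNoetherian T₁ := LocallyOfFiniteType.isLocallyNoetherian j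
  haveI : NoetherianSpace T₁ := j.isEmbedding.isInducing.noetherianSpace
  haveI : CompactSpace T₁ := inferInstance
  haveI : AlgebraicGeometry.IsNoetherian T₁ := ⟨⟩
  let K : Closeds T₁ := ⊤
  let T₂ := (Scheme.IdealSheafData.vanishingIdeal K).subscheme
  let r : T₂ ⟶ T₁ := (Scheme.IdealSheafData.vanishingIdeal K).subschemeι
  have hr : Set.range r = Set.univ := by
    show Set.range (Scheme.IdealSheafData.vanishingIdeal K).subschemeι = _
    rw [Scheme.IdealSheafData.range_subschemeι, Scheme.IdealSheafData.coe_support_vanishingIdeal]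
    rfl
  haveI : IsReduced T₂ := DvrDom.isReduced_vanishingIdeal_subscheme K
  obtain ⟨t₂, rfl⟩ : t₁ ∈ Set.range r := by rw [hr]; trivial
  have ht₂ : ∀ y : T₂, t₂ ⤳ y := fun y => r.isEmbedding.isInducing.specializes_iff.1 (ht _)
  haveI : IrreducibleSpace T₂ := by
    haveI : Nonempty T₂ := ⟨t₂⟩
    haveI : PreirreducibleSpace T₂ := ⟨by
      have : (Set.univ : Set T₂) = closure {t₂} :=
        (Set.eq_univ_of_forall fun y => specializes_iff_mem_closure.1 (ht₂ y)).symm
      rw [this]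
      exact isIrreducible_singleton.closure.2⟩
    exact { toPreirreducibleSpace := inferInstance, toNonempty := ⟨t₂⟩ }
  haveI : AlgebraicGeometry.IsIntegral T₂ := isIntegral_of_irreducibleSpace_of_isReduced T₂
  haveI : IsLocallyNoetherian T₂ := LocallyOfFiniteType.isLocallyNoetherian r
  haveI : CompactSpace T₂ := QuasiCompact.compactSpace_of_compactSpace r
  haveI : AlgebraicGeometry.IsNoetherian T₂ := ⟨⟩
  have hgen : genericPoint T₂ = t₂ := ((genericPoint_specializes t₂).antisymm (ht₂ _)).eq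
  obtain ⟨O, hO, hle⟩ := exists_open_card_le ℓ q (pullback.snd g (r ≫ j)) (fiber_dim_baseChange g hdim (r ≫ j))
  have hcl : IsClosed (r '' (O : Set T₂)ᶜ) := r.isClosedMap _ O.2.isClosed_compl
  refine ⟨⟨_, hcl.isOpen_compl⟩, fun h => ?_, ?_⟩
  · obtain ⟨w, hw, hwt⟩ := h
    exact hw ((r.isEmbedding.injective hwt) ▸ hgen ▸ hO)
  intro Ω Ω' _ _ _ _ η ζ hη hζ
  obtain ⟨w, hw⟩ : ζ (default : ↥(Spec (CommRingCat.of Ω'))) ∈ Set.range r := by rw [hr]; trivial
  have hwO : w ∈ O := by
    by_contra h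
    exact hζ ⟨w, h, hw⟩
  have key : ∀ {Ω₀ : Type u} [Field Ω₀] [IsSepClosed Ω₀] (ξ : Spec (CommRingCat.of Ω₀) ⟶ T₁) (z : T₂),
      ξ (default : ↥(Spec (CommRingCat.of Ω₀))) = r z →
      Nat.card ((EtCoh.stalk (ξ ≫ j)).obj ((EtCoh.Rpush g q).obj (EtCoh.const Y (ZMod ℓ)))) =
        cardH ℓ q (pullback.snd g (r ≫ j)) (GeomFib.geomPt z) := by
    intro Ω₀ _ _ ξ z hz
    rw [card_stalk, cardH_eq_of_eq ℓ q g hdim (ξ ≫ j) (GeomFib.geomPt z ≫ r ≫ j)]
    · exact (card_H_const_of_iso ℓ q (pullbackLeftPullbackSndIso g (r ≫ j) (GeomFib.geomPt z)).hom).symm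
    · rw [Scheme.Hom.comp_apply, hz, Scheme.Hom.comp_apply, geomPt_default, Scheme.Hom.comp_apply]
  rw [key ζ w hw.symm, key η t₂ hη, ← hgen]
  exact hle w hwO

end Groth.Agent.EtConsPush
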