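import Groth.Agent.EtConsPush.Shriek
import Groth.Agent.EtRshriek.Bound
import Groth.Agent.EtRshriek.Indep
import Mathlib

/-!
# `Rf_!` of bounded below complexes with constructible cohomology
-/

set_option autoImplicit false
set_option backward.isDefEq.respectTransparency false
set_option backward.isDefEq.respectTransparency.types false
set_option linter.auxLemma false
set_option linter.style.haveILetI false
set_option linter.unusedSectionVars false
set_option linter.overlappingInstances false
set_option maxHeartbeats 800000

universe u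

open CategoryTheory CategoryTheory.Limits AlgebraicGeometry Opposite

attribute [local instance] HasDerivedCategory.standard

noncomputable section

namespace Groth.Agent.EtConsPush

variable {X P S : Scheme.{u}} [CompactSpace X] [QuasiSeparatedSpace X] [QuasiSeparatedSpace S]
  (j : X ⟶ P) [IsOpenImmersion j] (p : P ⟶ S) [IsProper p] [LocallyOfFinitePresentation (j ≫ p)]
  [PreservesFiniteLimits (EtShriek.extZero j)] [DCoh.HasRpushEt P p]

/-- single sheaves -/
theorem cohIn_Rshriek_single (F : EtCoh.Ab X) (hF : EtPBC.IsConstructible F) :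
    WSerre.cohIn (Cons S) ((DEt.extZeroD j ⋙ DCoh.RpushEt P p).obj (WayOut.sgl F)) := by
  obtain ⟨n, hn, hFn⟩ := EtCons.exists_killedBy F hF
  obtain ⟨e⟩ := EtRshriek.nonempty_map_single (EtShriek.extZero j) F
  intro i
  refine EtCons.isConstructible_of_iso
    ((DerivedCategory.homologyFunctor (EtCoh.Ab S) i).mapIso ((DCoh.RpushEt P p).mapIso e)).symm ?_
  rcases lt_or_ge i 0 with hi | hi
  · exact isConstructible_of_isZero' (EtRshriek.isZero_H_single_neg p _ i hi)
  · obtain ⟨q, rfl⟩ := Int.eq_ofNat_of_zero_le hi
    obtain ⟨e'⟩ := EtRshriek.nonempty_H_single_nat p ((EtShriek.extZero j).obj F) q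
    exact EtCons.isConstructible_of_iso e'.symm (isConstructible_Rpush_extZero j p hn F hF hFn q)

/-- **bounded below complexes** -/
theorem cohIn_Rshriek (K : DCoh.DEt X) (a : ℤ) (ha : K.IsGE a)
    (hK : ∀ n, EtPBC.IsConstructible (DCoh.HDEt K n)) :
    WSerre.cohIn (Cons S) ((DEt.extZeroD j ⋙ DCoh.RpushEt P p).obj K) := by
  haveI := isWeakSerre_cons S
  haveI := EtPullExact.pull_preservesFiniteLimits p
  obtain ⟨adj, -⟩ := EtBCBridge.exists_adj p
  letI := adj.rightAdjointCommShift ℤ
  haveI := adj.commShift_of_leftAdjoint ℤ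
  haveI := adj.isTriangulated_rightAdjoint
  exact WayOut.cohIn_of_boundedBelow _ (EtRshriek.preservesGE j p) _ K a ha
    fun n => cohIn_Rshriek_single j p _ (hK n)

end Groth.Agent.EtConsPush
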