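import Groth.Agent.EtMV.HofPush
import Mathlib

/-!
# The edge maps of direct images in degrees at most one are injective
-/

universe w w' v v' u u'

open CategoryTheory CategoryTheory.Limits CategoryTheory.Abelian AlgebraicGeometry

set_option backward.isDefEq.respectTransparency false
set_option backward.isDefEq.respectTransparency.types false

noncomputable section

namespace Groth.Agent.EtConsPush

section Abstract

variable {A : Type u} [Category.{v} A] [Abelian A] [EnoughInjectives A]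
variable {B : Type u'} [Category.{v'} B] [Abelian B] {L : B ⥤ A} {R : A ⥤ B}
  [R.Additive] (adj : L ⊣ R)
  [HasExt.{w} A] [HasExt.{w'} B] [L.Additive] [PreservesFiniteLimits L] [PreservesFiniteColimits L]

theorem U_mk₀ {P : B} {Q : A} (c : Q ⟶ L.obj P) (G : A) (φ : P ⟶ R.obj G) :
    EtMV.U adj c G 0 (Ext.mk₀ φ) = Ext.mk₀ (c ≫ (adj.homEquiv _ _).symm φ) := by
  rw [EtMV.U_apply, EtMV.T_mk₀, Ext.mk₀_comp_mk₀, Category.assoc, Adjunction.homEquiv_counit]

/-- `Ext^n(P, R G) → Ext^n(L P, G)` is injective for `n ≤ 1` -/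
theorem U_injective_of_le_one [R.PreservesInjectiveObjects] {P : B} {Q : A} (c : Q ⟶ L.obj P) [IsIso c] (G : A)
    (n : ℕ) (hn : n ≤ 1) : Function.Injective (EtMV.U adj c G n) := by
  rcases Nat.le_one_iff_eq_zero_or_eq_one.1 hn with rfl | rfl
  · intro a b hab
    obtain ⟨φ, rfl⟩ := (Ext.mk₀_bijective _ _).2 a
    obtain ⟨φ', rfl⟩ := (Ext.mk₀_bijective _ _).2 b
    rw [U_mk₀, U_mk₀] at hab
    exact congrArg _ ((adj.homEquiv _ _).symm.injective ((cancel_epi c).1 ((Ext.mk₀_bijective _ _).1 hab)))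
  refine (injective_iff_map_eq_zero _).2 fun x hx => ?_
  haveI : R.IsRightAdjoint := adj.isRightAdjoint
  let S := EtMV.injSeq G
  have hS : S.ShortExact := EtMV.injSeq_shortExact G
  haveI : Mono S.f := hS.mono_f
  haveI : Mono (R.map S.f) := inferInstance
  let T : ShortComplex B := ShortComplex.mk (R.map S.f) (cokernel.π (R.map S.f)) (cokernel.condition _)
  have hT : T.ShortExact := { exact := ShortComplex.exact_of_g_is_cokernel _ (cokernelIsCokernel _) }
  haveI : Injective S.X₂ := inferInstanceAs (Injective (EtMV.injSeq G).X₂)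
  haveI : Injective T.X₂ := R.injective_obj _
  obtain ⟨z, rfl⟩ := Ext.covariant_sequence_exact₁ P hT x (Ext.eq_zero_of_injective _) (rfl : 0 + 1 = 1)
  obtain ⟨z, rfl⟩ := (Ext.mk₀_bijective _ _).2 z
  let ι : T.X₃ ⟶ R.obj S.X₃ := cokernel.desc _ (R.map S.g) (by rw [← Functor.map_comp, S.zero, Functor.map_zero])
  have hι : T.g ≫ ι = R.map S.g := cokernel.π_desc _ _ _
  haveI : PreservesFiniteLimits R := inferInstance
  have hex : (ShortComplex.mk (R.map S.f) (R.map S.g) (by rw [← Functor.map_comp, S.zero, Functor.map_zero])).Exact :=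
    ShortComplex.exact_of_f_is_kernel _ (KernelFork.mapIsLimit _ hS.fIsKernel R)
  haveI : Mono ι := (ShortComplex.exact_iff_mono_cokernel_desc _).1 hex
  let φ : T.map L ⟶ S :=
    { τ₁ := adj.counit.app G
      τ₂ := adj.counit.app S.X₂
      τ₃ := L.map ι ≫ adj.counit.app S.X₃
      comm₁₂ := (adj.counit.naturality S.f).symm
      comm₂₃ := by
        show adj.counit.app S.X₂ ≫ S.g = L.map T.g ≫ L.map ι ≫ adj.counit.app S.X₃
        rw [← Functor.map_comp_assoc, hι]
        exact (adj.counit.naturality S.g).symm }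
  let ψ : Q ⟶ S.X₃ := c ≫ L.map z ≫ L.map ι ≫ adj.counit.app S.X₃
  have h1 : (Ext.mk₀ ψ).comp hS.extClass (zero_add 1) = 0 := by
    refine Eq.trans ?_ hx
    refine Eq.symm ?_
    rw [EtMV.U_apply, EtMV.T_comp, EtMV.T_mk₀, Ext.mapExactFunctor_extClass L hT]
    have hn' := ShortComplex.ShortExact.extClass_naturality (hT.map_of_exact L) hS φ
    refine (Ext.comp_assoc (a₂₃ := 1) _ _ _ (zero_add 1) (add_zero 1) (by omega)).trans ?_
    refine (congrArg (fun t => (Ext.mk₀ (c ≫ L.map z)).comp t (zero_add 1)) hn').trans ?_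
    refine (Ext.comp_assoc (a₁₂ := 0) _ _ _ (add_zero 0) (zero_add 1) (by omega)).symm.trans ?_
    rw [Ext.mk₀_comp_mk₀]
    simp only [ψ, Category.assoc]
    rfl
  obtain ⟨w, hw⟩ := Ext.covariant_sequence_exact₃ Q hS _ (rfl : 0 + 1 = 1) h1
  obtain ⟨w, rfl⟩ := (Ext.mk₀_bijective _ _).2 w
  rw [Ext.mk₀_comp_mk₀] at hw
  have hw' : w ≫ S.g = ψ := (Ext.mk₀_bijective _ _).1 hw
  let w' : P ⟶ R.obj S.X₂ := adj.homEquiv _ _ (inv c ≫ w)
  have hz : z = w' ≫ T.g := by
    rw [← cancel_mono ι, Category.assoc, hι]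
    apply (adj.homEquiv _ _).symm.injective
    rw [Adjunction.homEquiv_naturality_right_symm, Equiv.symm_apply_apply, Category.assoc, hw',
      Adjunction.homEquiv_counit, Functor.map_comp, Category.assoc]
    exact (IsIso.inv_hom_id_assoc c _).symm
  rw [hz, ← Ext.mk₀_comp_mk₀]
  exact Ext.comp_assoc_of_second_deg_zero _ _ _ _ |>.trans
    ((congrArg (fun t => (Ext.mk₀ w').comp t rfl) (hT.comp_extClass)).trans (Ext.comp_zero _ _ _ _ _))

end Abstract

section Etale

universe u₁

set_option linter.auxLemma false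
attribute [local instance 100000] EtCoh.H._proof_1 EtMV.hext
attribute [local instance 200000] EtMV.hextAb

variable {X Y : Scheme.{u₁}} (f : X ⟶ Y) [PreservesFiniteLimits (EtCoh.pull f)]

/-- `H^p(Y, f_* F) → H^p(X, F)` is injective for `p ≤ 1` -/
theorem HofPush_injective_of_le_one (F : EtCoh.Ab X) (p : ℕ) (hp : p ≤ 1) :
    Function.Injective (EtLim.HofPush f F p) := by
  haveI := EtMV.isIso_pc f
  haveI := EtMV.push_preservesInjective f
  rw [(funext (EtMV.HofPush_eq f F p) : (⇑(EtLim.HofPush f F p)) = _)]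
  exact ((EtMV.toH X F p).injective.comp (U_injective_of_le_one (EtCoh.pullPushAdj f) (EtMV.pc f) F p hp)).comp
    (EtMV.toH Y _ p).symm.injective

end Etale

end Groth.Agent.EtConsPush
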