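import Groth.Agent.EtConsPush.LerayOne
import Groth.Agent.EtPBC.AllBC
import Groth.Agent.EtPBC.NormalAlgClosed
import Groth.Agent.EtShSep.ULoc
import Groth.Agent.EtShSep.Forget
import Groth.Agent.EtCons.ExtZeroConst
import Mathlib

/-!
# Semicontinuity of `H^0`, `H^1` along proper universally locally 0-acyclic morphisms over normal
strictly henselian bases with separably closed fraction field
-/

set_option autoImplicit false
set_option backward.isDefEq.respectTransparency false
set_option backward.isDefEq.respectTransparency.types false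
set_option linter.auxLemma false
set_option linter.style.haveILetI false
set_option linter.unusedSectionVars false
set_option maxHeartbeats 800000

universe u

open CategoryTheory CategoryTheory.Limits CategoryTheory.Abelian AlgebraicGeometry Opposite IsLocalRing

noncomputable section

namespace Groth.Agent.EtConsPush

attribute [local instance 100000] EtCoh.H._proof_1 EtMV.hext
attribute [local instance 200000] EtMV.hextAb

/-- cardinalities of cohomology are invariant under isomorphisms of sheaves -/
theorem card_H_congr {X : Scheme.{u}} {F G : EtCoh.Ab X} (e : F ≅ G) (q : ℕ) :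
    Nat.card (EtCoh.H X F q) = Nat.card (EtCoh.H X G q) :=
  Nat.card_congr ((EtCoh.HF X q).mapIso e).addCommGroupIsoToAddEquiv.toEquiv

theorem finite_H_congr {X : Scheme.{u}} {F G : EtCoh.Ab X} (e : F ≅ G) (q : ℕ) [Finite (EtCoh.H X F q)] :
    Finite (EtCoh.H X G q) :=
  Finite.of_equiv (EtCoh.H X F q) ((EtCoh.HF X q).mapIso e).addCommGroupIsoToAddEquiv.toEquiv

/-- the unit of a constant sheaf at the generic point of a normal domain is an isomorphism -/
theorem nonempty_push_const_generic {B : Type u} [CommRing B] [IsDomain B] [IsIntegrallyClosed B]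
    (K : Type u) [Field K] [Algebra B K] [IsFractionRing B K] (M : Type) [AddCommGroup M] :
    Nonempty ((EtCoh.push (Spec.map (CommRingCat.ofHom (algebraMap B K)))).obj
      (EtCoh.const (Spec (CommRingCat.of K)) M) ≅ EtCoh.const (Spec (CommRingCat.of B)) M) := by
  let η := Spec.map (CommRingCat.ofHom (algebraMap B K))
  haveI : IsPreimmersion η := IsPreimmersion.of_isLocalization (R := B) (nonZeroDivisors B)
  haveI : Mono η := inferInstance
  have hN : ∀ y : Spec (CommRingCat.of B), IsIntegrallyClosed ((Spec (CommRingCat.of B)).presheaf.stalk y) := fun y => by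
    haveI : IsIntegrallyClosed (Localization.AtPrime y.asIdeal) :=
      isIntegrallyClosed_of_isLocalization _ y.asIdeal.primeCompl y.asIdeal.primeCompl_le_nonZeroDivisors
    exact IsIntegrallyClosed.of_equiv (Spec.stalkIso (CommRingCat.of B) y).commRingCatIsoToRingEquiv.symm
  have hη : η (genericPoint (Spec (CommRingCat.of K))) = genericPoint (Spec (CommRingCat.of B)) := by
    rw [genericPoint_eq_bot_of_affine, genericPoint_eq_bot_of_affine]
    refine PrimeSpectrum.ext ?_
    change Ideal.comap (algebraMap B K) ⊥ = ⊥
    exact (RingHom.ker_eq_comap_bot _).symm.trans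
      ((RingHom.injective_iff_ker_eq_bot _).1 (IsFractionRing.injective B K))
  haveI := EtMV.isIso_unit_const (M := M) (EtMV.irrNhd_of_normal hN) η hη
  exact ⟨(EtCoh.push η).mapIso (EtCons.pullConstM η M).symm ≪≫
    (asIso ((EtCoh.pullPushAdj η).unit.app (EtCoh.const (Spec (CommRingCat.of B)) M))).symm⟩

variable {B : Type u} [CommRing B] [IsDomain B] [IsIntegrallyClosed B] [HenselianLocalRing B]
  [IsSepClosed (ResidueField B)] (K : Type u) [Field K] [Algebra B K] [IsFractionRing B K]
  {Y : Scheme.{u}} (g : Y ⟶ Spec (CommRingCat.of B)) [IsProper g]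

/-- `H^q` of the special fibre is not bigger than the one of the generic fibre, for `q ≤ 1` -/
theorem card_closed_le_generic (hg : EtAcyc.IsULocZeroAcyclic g) (M : Type) [AddCommGroup M]
    (hM : EtAcyc.IsLTorsion Set.univ (EtCoh.const Y M)) (q : ℕ) (hq : q ≤ 1)
    [Finite (EtCoh.H (pullback g (Spec.map (CommRingCat.ofHom (algebraMap B K)))) (EtCoh.const _ M) q)] :
    Nat.card (EtCoh.H (pullback g (Spec.map (CommRingCat.ofHom (residue B)))) (EtCoh.const _ M) q) ≤
      Nat.card (EtCoh.H (pullback g (Spec.map (CommRingCat.ofHom (algebraMap B K)))) (EtCoh.const _ M) q) := by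
  let η := Spec.map (CommRingCat.ofHom (algebraMap B K))
  let i := pullback.fst g (Spec.map (CommRingCat.ofHom (residue B)))
  let v := pullback.fst g η
  let c := pullback.snd g η
  haveI := EtPullExact.pull_preservesFiniteLimits i
  haveI := EtPullExact.pull_preservesFiniteLimits v
  have h0 : Function.Bijective (EtCore.Hpull i (EtCoh.const Y M) q) :=
    (EtPBC.pb_proper g B (𝟙 _) (𝟙 Y) g IsPullback.of_id_fst i _ (IsPullback.of_hasPullback _ _) q _ hM).1 q le_rfl
  rw [← card_H_congr (EtCons.pullConstM i M) q, ← Nat.card_congr (Equiv.ofBijective _ h0)]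
  have sq : IsPullback c v η g := (IsPullback.of_hasPullback g η).flip
  haveI := EtShSep.isIso_baseChange0_of_sets η g v c sq.w (EtCoh.const _ M)
    (EtShSep.isIso_baseChange0Sh_uloc η g v c sq hg _)
  obtain ⟨e⟩ := nonempty_push_const_generic K (B := B) M
  let e' : EtCoh.const Y M ≅ (EtCoh.push v).obj (EtCoh.const _ M) :=
    (EtCons.pullConstM g M).symm ≪≫ (EtCoh.pull g).mapIso e.symm ≪≫
      asIso (EtCoh.baseChange0 η g v c sq.w (EtCoh.const _ M)) ≪≫ (EtCoh.push v).mapIso (EtCons.pullConstM c M)
  rw [card_H_congr e' q]
  exact Nat.card_le_card_of_injective _ (HofPush_injective_of_le_one v (EtCoh.const _ M) q hq)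

end Groth.Agent.EtConsPush
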