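import Groth.Agent.EtConsPush.Affine
import Groth.Agent.S0631
import Groth.Agent.EtTorsPoint.Push
import Mathlib

/-!
# Proper direct images of constructible sheaves over noetherian bases
-/

set_option autoImplicit false
set_option backward.isDefEq.respectTransparency false
set_option backward.isDefEq.respectTransparency.types false
set_option linter.auxLemma false
set_option linter.style.haveILetI false
set_option linter.unusedSectionVars false
set_option maxHeartbeats 800000

universe u

open CategoryTheory CategoryTheory.Limits AlgebraicGeometry Opposite TopologicalSpace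

attribute [local instance] HasDerivedCategory.standard

noncomputable section

namespace Groth.Agent.EtConsPush

/-- direct images of extensions by zero from affine opens -/
theorem isConstructible_Rpush_extZero_affine {B : Type u} [CommRing B] [IsNoetherianRing B] {X U : Scheme.{u}}
    (f : X ⟶ Spec (CommRingCat.of B)) [IsProper f] [IsAffine U] (j : U ⟶ X) [IsOpenImmersion j]
    (G : EtCoh.Ab U) (hG : EtPBC.IsConstructible G) (q : ℕ) :
    EtPBC.IsConstructible ((EtCoh.Rpush f q).obj ((EtShriek.extZero j).obj G)) := by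
  haveI : LocallyOfFiniteType (j ≫ f) := inferInstance
  haveI : IsLocallyNoetherian U := LocallyOfFiniteType.isLocallyNoetherian (j ≫ f)
  obtain ⟨c', hN, hc'⟩ := exists_compactification_affine (j ≫ f)
  haveI := hN
  let c : DEt.Compactification (j ≫ f) := ⟨X, j, f, inferInstance, inferInstance, rfl⟩
  haveI := EtShriekStalk.preservesFiniteLimits c.j
  haveI := EtShriekStalk.preservesFiniteLimits c'.j
  haveI := EtRshriek.hasRpushEt c.fbar
  haveI := EtRshriek.hasRpushEt c'.fbar
  have hT : EtCoh.IsTorsion G := isTorsion_of_isConstructible hG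
  obtain ⟨e₁⟩ := EtRshriek.nonempty_indep c c' (EtBC.single U G) 0
    (DerivedCategory.TStructure.t.isGE_of_ge _ 0 0 le_rfl) (fun n => by
      rcases eq_or_ne n 0 with rfl | hn
      · exact EtTorsPoint.isTorsion_of_iso ((DerivedCategory.singleFunctorCompHomologyFunctorIso (EtCoh.Ab U) 0).app G) hT
      · refine EtRshriek.isTorsion_of_isZero ?_
        rcases lt_or_gt_of_ne hn with h | h
        · exact DerivedCategory.isZero_of_isGE (EtBC.single U G) 0 n h
        · exact DerivedCategory.isZero_of_isLE (EtBC.single U G) 0 n h)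
  obtain ⟨s₁⟩ := EtRshriek.nonempty_map_single (EtShriek.extZero c.j) G
  obtain ⟨s₂⟩ := EtRshriek.nonempty_map_single (EtShriek.extZero c'.j) G
  obtain ⟨h₁⟩ := EtRshriek.nonempty_H_single_nat c.fbar ((EtShriek.extZero c.j).obj G) q
  obtain ⟨h₂⟩ := EtRshriek.nonempty_H_single_nat c'.fbar ((EtShriek.extZero c'.j).obj G) q
  let Hq := DerivedCategory.homologyFunctor (EtCoh.Ab (Spec (CommRingCat.of B))) (q : ℤ)
  exact EtCons.isConstructible_of_iso
    (h₂.symm ≪≫ Hq.mapIso ((DCoh.RpushEt c'.Xbar c'.fbar).mapIso s₂.symm ≪≫ e₁.symm ≪≫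
      (DCoh.RpushEt c.Xbar c.fbar).mapIso s₁) ≪≫ h₁)
    (hc' _ (isConstructible_extZero c'.j G hG) q)

/-- induction on the number of affine opens -/
theorem isConstructible_Rpush_of_cover {B : Type u} [CommRing B] [IsNoetherianRing B] : ∀ (n : ℕ) (X : Scheme.{u})
    (f : X ⟶ Spec (CommRingCat.of B)) [IsProper f] (U : Fin n → X.Opens), (∀ i, IsAffineOpen (U i)) →
    (∀ x : X, ∃ i, x ∈ U i) → PreservesCons f := by
  intro n
  induction n with
  | zero =>
    intro X f _ U _ hcov F _ q
    exact isConstructible_of_isZero ((EtCoh.Rpush f q).map_isZero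
      (EtPBC.isZero_of_zeroAt _ fun x => (hcov x).choose.elim0))
  | succ n ih =>
    intro X f _ U hU hcov F hF q
    haveI : IsLocallyNoetherian X := LocallyOfFiniteType.isLocallyNoetherian f
    haveI : CompactSpace X := QuasiCompact.compactSpace_of_compactSpace f
    haveI : AlgebraicGeometry.IsNoetherian X := ⟨⟩
    let j := (U 0).ι
    haveI : IsAffine (U 0).toScheme := hU 0
    let ε := (EtShriek.extZeroAdj j).counit.app F
    haveI : Mono ε := EtPBC.mono_counit j F
    let S : ShortComplex (EtCoh.Ab X) := ShortComplex.mk ε (cokernel.π ε) (cokernel.condition ε)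
    have hS : S.ShortExact := { exact := ShortComplex.exact_of_g_is_cokernel _ (cokernelIsCokernel _) }
    let K : Closeds X := ⟨((U 0 : Set X))ᶜ, (U 0).2.isClosed_compl⟩
    let i := (Scheme.IdealSheafData.vanishingIdeal K).subschemeι
    have hr : Set.range i = ((U 0 : Set X))ᶜ := by
      show Set.range (Scheme.IdealSheafData.vanishingIdeal K).subschemeι = _
      rw [Scheme.IdealSheafData.range_subschemeι, Scheme.IdealSheafData.coe_support_vanishingIdeal]
      rfl
    have hjG : EtPBC.IsConstructible ((EtShriek.restrAlong j).obj F) :=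
      EtCons.isConstructible_of_iso ((EtPushStalk.restrPullIso j).app F).symm (EtCons.isConstructible_pull j hF)
    have h1 : ∀ q, EtPBC.IsConstructible ((EtCoh.Rpush f q).obj S.X₁) :=
      fun q => isConstructible_Rpush_extZero_affine f j _ hjG q
    have hC : EtPBC.IsConstructible (cokernel ε) :=
      (EtCons.isConstructible_kernel_cokernel ε (isConstructible_extZero j _ hjG) hF).2
    have hsupp : EtPBC.supp (cokernel ε) ⊆ Set.range i := by
      rintro x ⟨Ω, _, _, ξ, hξ, hne⟩
      rw [hr]
      intro hx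
      refine hne ((EtPBC.isZero_stalk_iff_zeroAt (x := x) ?_ _).2 (EtPBC.zeroAt_cokernel_counit j F ?_))
      · exact Set.mem_singleton_iff.1 (hξ.le ⟨default, rfl⟩)
      · exact ⟨⟨x, hx⟩, rfl⟩
    obtain ⟨G, ⟨e⟩⟩ := ((Groth.Agent.S0631.result i).2.2.1 (cokernel ε)).2 hsupp
    haveI : IsIso ((EtCoh.pullPushAdj i).counit.app G) := (Groth.Agent.S0631.result i).2.2.2 G
    have hG : EtPBC.IsConstructible G := EtCons.isConstructible_of_iso
      ((EtCoh.pull i).mapIso e.symm ≪≫ asIso ((EtCoh.pullPushAdj i).counit.app G))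
      (EtCons.isConstructible_pull i hC)
    have hfi : PreservesCons (i ≫ f) := by
      refine ih _ (i ≫ f) (fun k => i ⁻¹ᵁ U k.succ) (fun k => (hU k.succ).preimage i) fun z => ?_
      obtain ⟨k, hk⟩ := hcov (i z)
      obtain ⟨k, rfl⟩ | rfl := (Fin.eq_zero_or_eq_succ k).symm
      · exact ⟨k, hk⟩
      · exact absurd hk (hr.le ⟨z, rfl⟩)
    have h3 : ∀ q, EtPBC.IsConstructible ((EtCoh.Rpush f q).obj S.X₃) := fun q => by
      obtain ⟨e'⟩ := nonempty_Rpush_push i f (i ≫ f) rfl G q
      exact EtCons.isConstructible_of_iso (e'.symm ≪≫ (EtCoh.Rpush f q).mapIso e) (hfi G hG q)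
    haveI : (EtCoh.push f).Additive := inferInstance
    exact isConstructible_of_exact _ ((RDerLib.derivedLES (EtCoh.push f)).exact₂ S hS q) (h1 q) (h3 q)

/-- affine base -/
theorem preservesCons_proper_affine {B : Type u} [CommRing B] [IsNoetherianRing B] {X : Scheme.{u}}
    (f : X ⟶ Spec (CommRingCat.of B)) [IsProper f] : PreservesCons f := by
  haveI : CompactSpace X := QuasiCompact.compactSpace_of_compactSpace f
  let 𝒰 := X.affineCover.finiteSubcover
  haveI : Finite 𝒰.I₀ := inferInstance
  obtain ⟨n, ⟨e⟩⟩ := Finite.exists_equiv_fin 𝒰.I₀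
  refine isConstructible_Rpush_of_cover n X f (fun k => (𝒰.f (e.symm k)).opensRange)
    (fun k => isAffineOpen_opensRange _) fun x => ?_
  obtain ⟨i, y, hy⟩ := 𝒰.exists_eq x
  obtain ⟨k, rfl⟩ := e.symm.surjective i
  exact ⟨k, y, hy⟩

/-- **proper direct images of constructible sheaves over noetherian bases** -/
theorem preservesCons_proper {X S : Scheme.{u}} [IsLocallyNoetherian S] (f : X ⟶ S) [IsProper f] :
    ∀ F : EtCoh.Ab X, EtPBC.IsConstructible F → EtCoh.IsTorsion F → ∀ q : ℕ,
      EtPBC.IsConstructible ((EtCoh.Rpush f q).obj F) := by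
  intro F hF hT q
  refine EtCons.isConstructible_of_openCover _ (fun V : S.affineOpens => V.1) (iSup_affineOpens_eq_top S) fun V => ?_
  haveI : IsAffine V.1.toScheme := V.2
  haveI : IsNoetherianRing Γ(S, V.1) := IsLocallyNoetherian.component_noetherian V
  let t : Spec Γ(S, V.1) ⟶ S := V.2.fromSpec
  let g' := pullback.fst f t
  haveI := EtPullExact.pull_preservesFiniteLimits g'
  haveI := EtPBC.isIso_bcQ_proper f t (pullback.snd f t) g' (IsPullback.of_hasPullback f t) F
    (EtPBC.isLTorsion_univ_of_isTorsion hT) q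
  have h1 : EtPBC.IsConstructible ((EtCoh.pull t).obj ((EtCoh.Rpush f q).obj F)) :=
    EtCons.isConstructible_of_iso
      (asIso (EtBC.bcQ f t (pullback.snd f t) g' (IsPullback.of_hasPullback f t).w q F)).symm
      (preservesCons_proper_affine (B := Γ(S, V.1)) (pullback.snd f t) _ (EtCons.isConstructible_pull g' hF) q)
  let e : V.1.toScheme ⟶ Spec Γ(S, V.1) := V.2.isoSpec.hom
  obtain ⟨c⟩ := EtCons.nonempty_pull_pull e t V.1.ι V.2.isoSpec_hom_fromSpec
  exact EtCons.isConstructible_of_iso (c.app _) (EtCons.isConstructible_pull e h1)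

end Groth.Agent.EtConsPush
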