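import Groth.Agent.EtConsPush.Core
import Groth.Agent.EtCons.NoethCons
import Groth.Agent.EtCons.Presentation
import Groth.Agent.EtEmbFin.Main
import Groth.Agent.EtRshriek.Indep
import Groth.Agent.EtRshriek.Bound
import Groth.Agent.EtRshriek.Homology
import Groth.Agent.WayOut.Basic
import Groth.Agent.EtPBC.AllBC
import Mathlib

/-!
# Constructible higher direct images: formalism and the case of relative dimension at most one
-/

set_option autoImplicit false
set_option backward.isDefEq.respectTransparency false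
set_option backward.isDefEq.respectTransparency.types false
set_option linter.auxLemma false
set_option linter.style.haveILetI false
set_option linter.unusedSectionVars false
set_option maxHeartbeats 800000

universe u

open CategoryTheory CategoryTheory.Limits AlgebraicGeometry Opposite

attribute [local instance] HasDerivedCategory.standard

noncomputable section

namespace Groth.Agent.EtConsPush

open Groth.Agent.EtPBC (cstF shortExact_map)

section Formal

variable {X : Scheme.{u}}

theorem isConstructible_of_exact [IsLocallyNoetherian X] (S : ShortComplex (EtCoh.Ab X)) (hS : S.Exact)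
    (h1 : EtPBC.IsConstructible S.X₁) (h3 : EtPBC.IsConstructible S.X₃) : EtPBC.IsConstructible S.X₂ := by
  haveI : Epi (kernel.lift S.g S.f S.zero) := (ShortComplex.exact_iff_epi_kernel_lift S).1 hS
  have hk := EtCons.isConstructible_quotient (kernel.lift S.g S.f S.zero) h1
  let T : ShortComplex (EtCoh.Ab X) :=
    ShortComplex.mk (kernel.ι S.g) (cokernel.π (kernel.ι S.g)) (cokernel.condition _)
  have hT : T.ShortExact := { exact := ShortComplex.exact_of_g_is_cokernel _ (cokernelIsCokernel _) }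
  haveI : Mono (cokernel.desc (kernel.ι S.g) S.g (kernel.condition S.g)) :=
    (ShortComplex.exact_iff_mono_cokernel_desc (ShortComplex.mk (kernel.ι S.g) S.g (kernel.condition S.g))).1
      (ShortComplex.exact_of_f_is_kernel _ (kernelIsKernel S.g))
  exact EtCons.isConstructible_middle T hT hk
    (EtCons.isConstructible_sub (cokernel.desc (kernel.ι S.g) S.g (kernel.condition S.g)) h3)

theorem isConstructible_of_isZero [IsLocallyNoetherian X] {F : EtCoh.Ab X} (hF : IsZero F) :
    EtPBC.IsConstructible F :=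
  haveI : Mono (0 : F ⟶ EtCoh.const X (ZMod 1)) := ⟨fun g h _ => hF.eq_of_tgt g h⟩
  EtCons.isConstructible_sub (0 : F ⟶ EtCoh.const X (ZMod 1)) (EtCons.isConstructible_const (ZMod 1))

theorem isTorsion_of_killedBy {n : ℕ} (hn : 0 < n) {F : EtCoh.Ab X} (hF : EtCoh.KilledBy n F) : EtCoh.IsTorsion F :=
  fun U s x => ⟨U, 𝟙 U, ⟨x, rfl⟩, isOfFinAddOrder_iff_nsmul_eq_zero.2 ⟨n, hn, hF U _⟩⟩

/-- constructible sheaves on quasi-compact quasi-separated schemes are torsion -/
theorem isTorsion_of_isConstructible [CompactSpace X] [QuasiSeparatedSpace X] {F : EtCoh.Ab X}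
    (hF : EtPBC.IsConstructible F) : EtCoh.IsTorsion F :=
  (EtCons.exists_killedBy F hF).elim fun _ h => isTorsion_of_killedBy h.1 h.2

/-- constructible sheaves -/
def Cons (X : Scheme.{u}) : ObjectProperty (EtCoh.Ab X) := fun F => EtPBC.IsConstructible F

instance isSerreClass_cons [IsLocallyNoetherian X] : (Cons X).IsSerreClass where
  exists_zero := ⟨_, isZero_zero (EtCoh.Ab X), isConstructible_of_isZero (isZero_zero _)⟩
  prop_of_mono f _ h := EtCons.isConstructible_sub f h
  prop_of_epi f _ h := EtCons.isConstructible_quotient f h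
  prop_X₂_of_shortExact hS h1 h3 := EtCons.isConstructible_middle _ hS h1 h3

end Formal

/-- all higher direct images of constructible sheaves are constructible -/
def PreservesCons {X S : Scheme.{u}} (f : X ⟶ S) : Prop :=
  ∀ F : EtCoh.Ab X, EtPBC.IsConstructible F → ∀ q : ℕ, EtPBC.IsConstructible ((EtCoh.Rpush f q).obj F)

theorem cohIn_Rpush_single {X S : Scheme.{u}} [IsLocallyNoetherian S] {f : X ⟶ S} (hf : PreservesCons f)
    [DCoh.HasRpushEt X f] (F : EtCoh.Ab X) (hF : EtPBC.IsConstructible F) :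
    WSerre.cohIn (Cons S) ((DCoh.RpushEt X f).obj (EtBC.single X F)) := by
  intro i
  rcases lt_or_ge i 0 with hi | hi
  · exact isConstructible_of_isZero (EtRshriek.isZero_H_single_neg f F i hi)
  · obtain ⟨q, rfl⟩ := Int.eq_ofNat_of_zero_le hi
    obtain ⟨e⟩ := EtRshriek.nonempty_H_single_nat f F q
    exact EtCons.isConstructible_of_iso e.symm (hf F hF q)

theorem preservesGE_Rpush {X S : Scheme.{u}} (f : X ⟶ S) [DCoh.HasRpushEt X f] :
    WayOut.PreservesGE (DCoh.RpushEt X f) := by
  haveI := EtPullExact.pull_preservesFiniteLimits f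
  obtain ⟨adj, -⟩ := EtBCBridge.exists_adj f
  exact WayOut.preservesGE_right adj

theorem isGE_Rpush_single {X S : Scheme.{u}} (f : X ⟶ S) [DCoh.HasRpushEt X f] (F : EtCoh.Ab X) :
    ((DCoh.RpushEt X f).obj (EtBC.single X F)).IsGE 0 :=
  (DerivedCategory.isGE_iff _ 0).2 fun i hi => EtRshriek.isZero_H_single_neg f F i hi

/-- bounded below complexes with constructible cohomology -/
theorem cohIn_Rpush {X S : Scheme.{u}} [IsLocallyNoetherian S] {f : X ⟶ S} (hf : PreservesCons f)
    [DCoh.HasRpushEt X f] (K : DCoh.DEt X) (a : ℤ) (ha : K.IsGE a)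
    (hK : ∀ n, EtPBC.IsConstructible (DCoh.HDEt K n)) : WSerre.cohIn (Cons S) ((DCoh.RpushEt X f).obj K) := by
  haveI := EtPullExact.pull_preservesFiniteLimits f
  obtain ⟨adj, -⟩ := EtBCBridge.exists_adj f
  letI := adj.rightAdjointCommShift ℤ
  haveI := adj.commShift_of_leftAdjoint ℤ
  haveI := adj.isTriangulated_rightAdjoint
  exact WayOut.cohIn_of_boundedBelow _ (preservesGE_Rpush f) _ K a ha fun n => cohIn_Rpush_single hf _ (hK n)

theorem preservesCons_comp {X Y S : Scheme.{u}} [IsLocallyNoetherian Y] [IsLocallyNoetherian S]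
    {f : X ⟶ Y} {g : Y ⟶ S} (hf : PreservesCons f) (hg : PreservesCons g) (h : X ⟶ S) (w : f ≫ g = h) :
    PreservesCons h := by
  intro F hF q
  haveI := EtRshriek.hasRpushEt f
  haveI := EtRshriek.hasRpushEt g
  haveI := EtRshriek.hasRpushEt h
  obtain ⟨e⟩ := EtRshriek.nonempty_Rpush_comp f g h w (EtBC.single X F)
  obtain ⟨e'⟩ := EtRshriek.nonempty_H_single_nat h F q
  exact EtCons.isConstructible_of_iso
    (((DerivedCategory.homologyFunctor (EtCoh.Ab S) (q : ℤ)).mapIso e).symm ≪≫ e')
    (cohIn_Rpush hg _ 0 (isGE_Rpush_single f F) (cohIn_Rpush_single hf F hF) q)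

theorem preservesCons_finite {X Y : Scheme.{u}} [IsLocallyNoetherian Y] (f : X ⟶ Y) [IsFinite f] :
    PreservesCons f := by
  haveI : LocallyOfFinitePresentation f := InfLift.lfp_of_lft f
  intro F hF q
  rcases q with _ | q
  · exact EtCons.isConstructible_of_iso ((EtCoh.push f).rightDerivedZeroIsoSelf.app F).symm
      (EtCons.isConstructible_push f hF)
  · exact isConstructible_of_isZero (EtIntegral.Rpush_succ_isZero f F q)

theorem nonempty_Rpush_push {X Y S : Scheme.{u}} (π : X ⟶ Y) [IsFinite π] (p : Y ⟶ S) (h : X ⟶ S) (w : π ≫ p = h)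
    (F : EtCoh.Ab X) (q : ℕ) :
    Nonempty ((EtCoh.Rpush p q).obj ((EtCoh.push π).obj F) ≅ (EtCoh.Rpush h q).obj F) := by
  haveI := EtRshriek.hasRpushEt π
  haveI := EtRshriek.hasRpushEt p
  haveI := EtRshriek.hasRpushEt h
  haveI hge := isGE_Rpush_single π F
  haveI : ((DCoh.RpushEt X π).obj (EtBC.single X F)).IsLE 0 := (DerivedCategory.isLE_iff _ 0).2 fun i hi => by
    obtain ⟨q', rfl⟩ : ∃ q' : ℕ, i = ((q' + 1 : ℕ) : ℤ) := ⟨i.toNat - 1, by omega⟩
    obtain ⟨e⟩ := EtRshriek.nonempty_H_single_nat π F (q' + 1)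
    exact (EtIntegral.Rpush_succ_isZero π F q').of_iso e
  obtain ⟨G, ⟨eG⟩⟩ := DerivedCategory.exists_iso_singleFunctor_obj_of_isGE_of_isLE
    ((DCoh.RpushEt X π).obj (EtBC.single X F)) 0
  obtain ⟨e0⟩ := EtRshriek.nonempty_H_single_nat π F 0
  let eG' : G ≅ (EtCoh.push π).obj F :=
    ((DerivedCategory.singleFunctorCompHomologyFunctorIso (EtCoh.Ab Y) 0).app G).symm ≪≫
      ((DerivedCategory.homologyFunctor (EtCoh.Ab Y) 0).mapIso eG).symm ≪≫ e0 ≪≫
      (EtCoh.push π).rightDerivedZeroIsoSelf.app F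
  obtain ⟨e1⟩ := EtRshriek.nonempty_H_single_nat p ((EtCoh.push π).obj F) q
  obtain ⟨e2⟩ := EtRshriek.nonempty_H_single_nat h F q
  obtain ⟨e3⟩ := EtRshriek.nonempty_Rpush_comp π p h w (EtBC.single X F)
  exact ⟨e1.symm ≪≫ (DerivedCategory.homologyFunctor (EtCoh.Ab S) (q : ℤ)).mapIso
    ((DCoh.RpushEt Y p).mapIso ((DerivedCategory.singleFunctor (EtCoh.Ab Y) 0).mapIso eG'.symm ≪≫ eG.symm) ≪≫ e3.symm)
      ≪≫ e2⟩

theorem topologicalKrullDim_fiber_comp_finite {Z Y T : Scheme.{u}} (π : Z ⟶ Y) [IsFinite π] (g : Y ⟶ T) {n : ℕ}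
    (hn : ∀ t : T, topologicalKrullDim (g.fiber t) ≤ n) (t : T) : topologicalKrullDim ((π ≫ g).fiber t) ≤ n :=
  ((pullbackRightPullbackFstIso g (T.fromSpecResidueField t) π).hom.homeomorph.isHomeomorph.topologicalKrullDim_eq
    _).ge.trans ((S9683.result (pullback.snd π (pullback.fst g (T.fromSpecResidueField t)))).1.trans (hn t))

section CurveCase

variable {Y T : Scheme.{u}} (g : Y ⟶ T) [IsProper g] [AlgebraicGeometry.IsNoetherian T]
  (hdim : ∀ t : T, topologicalKrullDim (g.fiber t) ≤ ((1 : ℕ) : WithBot ℕ∞))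

include hdim in
theorem isConstructible_Rpush_const_finite : ∀ (n : ℕ) (M : Type) [AddCommGroup M] [Finite M],
    Nat.card M = n → ∀ q : ℕ, EtPBC.IsConstructible ((EtCoh.Rpush g q).obj (EtCoh.const Y M)) := by
  intro n
  induction n using Nat.strong_induction_on with
  | _ n ih =>
  intro M _ _ hn q
  rcases subsingleton_or_nontrivial M with hM | hM
  · refine isConstructible_of_isZero ((EtCoh.Rpush g q).map_isZero ?_)
    haveI : (cstF Y).Additive := Functor.additive_of_preserves_binary_products _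
    exact (cstF Y).map_isZero (AddCommGrpCat.isZero_of_subsingleton _)
  have h2 : 2 ≤ n := hn ▸ Finite.one_lt_card
  have hp : n.minFac.Prime := Nat.minFac_prime (by omega)
  haveI := Fact.mk hp
  obtain ⟨x, hx⟩ := exists_prime_addOrderOf_dvd_card' (G := M) n.minFac (hn ▸ Nat.minFac_dvd n)
  let C : AddSubgroup M := AddSubgroup.zmultiples x
  have hC : Nat.card C = n.minFac := (Nat.card_zmultiples x).trans hx
  haveI : IsAddCyclic C := isAddCyclic_of_prime_card hC
  let e : ZMod n.minFac ≃+ C := (ZMod.ringEquivCongr hC.symm).toAddEquiv.trans (zmodAddCyclicAddEquiv (inferInstance : IsAddCyclic C))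
  let Q : Type := M ⧸ C
  have hQ : Nat.card Q < n := by
    have := C.card_eq_card_quotient_mul_card_addSubgroup
    rw [hn, hC] at this
    have h0 : 0 < Nat.card Q := Nat.card_pos
    calc Nat.card Q < Nat.card Q * n.minFac := lt_mul_of_one_lt_right h0 hp.one_lt
      _ = n := this.symm
  let S : ShortComplex AddCommGrpCat.{u + 1} :=
    ShortComplex.mk (X₁ := AddCommGrpCat.of (ULift.{u + 1} (ZMod n.minFac)))
      (X₂ := AddCommGrpCat.of (ULift.{u + 1} M)) (X₃ := AddCommGrpCat.of (ULift.{u + 1} Q))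
      (AddCommGrpCat.ofHom (AddEquiv.ulift.symm.toAddMonoidHom.comp
        ((C.subtype.comp e.toAddMonoidHom).comp AddEquiv.ulift.toAddMonoidHom)))
      (AddCommGrpCat.ofHom (AddEquiv.ulift.symm.toAddMonoidHom.comp
        ((QuotientAddGroup.mk' C).comp AddEquiv.ulift.toAddMonoidHom)))
      (by
        ext ⟨a⟩
        show (QuotientAddGroup.mk' C ((e a : C) : M)) = 0
        exact (QuotientAddGroup.eq_zero_iff _).2 (e a).2)
  have hS : S.ShortExact :=
    { exact := (ShortComplex.ab_exact_iff S).2 fun z hm => by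
        obtain ⟨m⟩ := z
        have hm' : (QuotientAddGroup.mk m : Q) = 0 := congrArg ULift.down hm
        exact ⟨⟨e.symm ⟨m, (QuotientAddGroup.eq_zero_iff m).1 hm'⟩⟩, by
          show ULift.up ((e (e.symm _) : C) : M) = ULift.up m
          rw [AddEquiv.apply_symm_apply]⟩
      mono_f := (AddCommGrpCat.mono_iff_injective _).2 fun a b h =>
        ULift.down_injective (e.injective (Subtype.ext (congrArg ULift.down h)))
      epi_g := (AddCommGrpCat.epi_iff_surjective _).2 fun z => by
        obtain ⟨b⟩ := z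
        obtain ⟨m, rfl⟩ := QuotientAddGroup.mk_surjective b
        exact ⟨⟨m⟩, rfl⟩ }
  have hS' := shortExact_map (cstF Y) hS
  haveI : (EtCoh.push g).Additive := inferInstance
  exact isConstructible_of_exact _ ((RDerLib.derivedLES (EtCoh.push g)).exact₂ _ hS' q)
    (isConstructible_Rpush_const (hℓ := ‹_›) n.minFac q g hdim) (ih _ hQ Q rfl q)

include hdim in
theorem isConstructible_Rpush_embedded [AlgebraicGeometry.IsNoetherian Y] (F : EtCoh.Ab Y)
    (hF : EtPBC.IsConstructible F) :
    ∃ (G : EtCoh.Ab Y) (ι : F ⟶ G), Mono ι ∧ EtPBC.IsConstructible G ∧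
      ∀ q : ℕ, EtPBC.IsConstructible ((EtCoh.Rpush g q).obj G) := by
  obtain ⟨n, Z, π, hπ, hπ', M, _, _, ι, hι⟩ := EtEmbFin.exists_embedding hF
  haveI := hπ
  haveI := hπ'
  refine ⟨_, ι, hι, EtCons.isConstructible_biproduct _ fun i => EtCons.isConstructible_push (π i)
    (EtCons.isConstructible_const (M i)), fun q => ?_⟩
  refine EtCons.isConstructible_of_iso ((EtCoh.Rpush g q).mapBiproduct _).symm
    (EtCons.isConstructible_biproduct _ fun i => ?_)
  obtain ⟨e⟩ := nonempty_Rpush_push (π i) g (π i ≫ g) rfl (EtCoh.const (Z i) (M i)) q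
  refine EtCons.isConstructible_of_iso e.symm (isConstructible_Rpush_const_finite (π i ≫ g) (fun t => ?_) _ (M i) rfl q)
  exact topologicalKrullDim_fiber_comp_finite (π i) g hdim t

include hdim in
/-- **relative dimension at most one** -/
theorem preservesCons_of_fibreDim_le_one : PreservesCons g := by
  haveI : IsLocallyNoetherian Y := LocallyOfFiniteType.isLocallyNoetherian g
  haveI : CompactSpace Y := QuasiCompact.compactSpace_of_compactSpace g
  haveI : AlgebraicGeometry.IsNoetherian Y := ⟨⟩
  haveI : (EtCoh.push g).Additive := inferInstance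
  haveI : PreservesFiniteLimits (EtCoh.push g) :=
    haveI : (EtCoh.push g).IsRightAdjoint := (EtCoh.pullPushAdj g).isRightAdjoint
    inferInstance
  intro F hF q
  induction q generalizing F with
  | zero =>
    obtain ⟨G, ι, hι, -, hG⟩ := isConstructible_Rpush_embedded g hdim F hF
    haveI : Mono ((EtCoh.Rpush g 0).map ι) := by
      haveI : Mono ((EtCoh.push g).map ι) := inferInstance
      rw [show (EtCoh.Rpush g 0).map ι = (EtCoh.push g).rightDerivedZeroIsoSelf.hom.app F ≫ (EtCoh.push g).map ι ≫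
        (EtCoh.push g).rightDerivedZeroIsoSelf.inv.app G from by
          rw [← NatTrans.naturality_assoc, Iso.hom_inv_id_app, Category.comp_id]]
      infer_instance
    exact EtCons.isConstructible_sub ((EtCoh.Rpush g 0).map ι) (hG 0)
  | succ q ih =>
    obtain ⟨G, ι, hι, hGc, hG⟩ := isConstructible_Rpush_embedded g hdim F hF
    let S : ShortComplex (EtCoh.Ab Y) := ShortComplex.mk ι (cokernel.π ι) (cokernel.condition ι)
    have hS : S.ShortExact := { exact := ShortComplex.exact_of_g_is_cokernel _ (cokernelIsCokernel _) }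
    exact isConstructible_of_exact _ ((RDerLib.derivedLES (EtCoh.push g)).exact₁ S hS q (q + 1) rfl)
      (ih _ (EtCons.isConstructible_kernel_cokernel ι hF hGc).2) (hG (q + 1))

end CurveCase

end Groth.Agent.EtConsPush
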