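import Groth.Agent.EtConsPush.AnyBase
import Groth.Agent.FibVan.Global
import Groth.Agent.EtPBC.CdPush
import Groth.Agent.EtPBC.LamCurve
import Groth.Agent.LimDesc.FPCancel
import Mathlib

/-!
# Direct images with proper support of constructible sheaves over arbitrary bases

A sheaf living on a quasi-compact open of a proper scheme, constructible there, is pushed into a
proper scheme of finite presentation, where it becomes constructible.
-/

set_option autoImplicit false
set_option backward.isDefEq.respectTransparency false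
set_option backward.isDefEq.respectTransparency.types false
set_option linter.auxLemma false
set_option linter.style.haveILetI false
set_option linter.unusedSectionVars false
set_option maxHeartbeats 800000

universe u

open CategoryTheory CategoryTheory.Limits AlgebraicGeometry Opposite TopologicalSpace Topology

noncomputable section

namespace Groth.Agent.EtConsPush

open Groth.Agent.EtPBC (ZeroAt)

/-- a sheaf constructible on a quasi-compact open and vanishing off it is constructible -/
theorem isConstructible_of_open_of_zeroAt {U X : Scheme.{u}} [CompactSpace X] [QuasiSeparatedSpace X]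
    (j : U ⟶ X) [IsOpenImmersion j] [CompactSpace U] (G : EtCoh.Ab X)
    (h : EtPBC.IsConstructible ((EtCoh.pull j).obj G)) (h0 : ∀ x ∉ Set.range j, ZeroAt G x) :
    EtPBC.IsConstructible G := by
  rw [EtCons.isConstructible_iff]
  intro x
  by_cases hx : x ∈ Set.range j
  · obtain ⟨w, rfl⟩ := hx
    exact EtCons.goodAt_of_openImmersion j ((EtCons.isConstructible_iff _).1 h w)
  · let K : Closeds X := ⟨(Set.range j)ᶜ, j.isOpenEmbedding.isOpen_range.isClosed_compl⟩
    let i := (Scheme.IdealSheafData.vanishingIdeal K).subschemeι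
    have hr : Set.range i = (Set.range j)ᶜ := by
      show Set.range (Scheme.IdealSheafData.vanishingIdeal K).subschemeι = _
      rw [Scheme.IdealSheafData.range_subschemeι, Scheme.IdealSheafData.coe_support_vanishingIdeal]
      rfl
    have hc : IsConstructible (Set.range i) := by
      rw [hr]
      exact ((QuasiSeparatedSpace.isRetrocompact_iff_isCompact j.isOpenEmbedding.isOpen_range).2
        (isCompact_range j.continuous)).isConstructible j.isOpenEmbedding.isOpen_range |>.compl
    obtain ⟨z, rfl⟩ : x ∈ Set.range i := hr ▸ hx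
    have hz : IsZero ((EtCoh.pull i).obj G) :=
      EtPBC.isZero_of_zeroAt _ fun y => EtPBC.zeroAt_pull _ _ y (h0 _ (hr.le ⟨y, rfl⟩))
    exact EtCons.goodAt_of_immersion i hc ((EtCons.isConstructible_iff _).1 (isConstructible_of_isZero' hz) z)

/-- extensions by zero along quasi-compact opens of constructible sheaves -/
theorem isConstructible_extZero' {U X : Scheme.{u}} [CompactSpace X] [QuasiSeparatedSpace X]
    (j : U ⟶ X) [IsOpenImmersion j] [CompactSpace U] (F : EtCoh.Ab U) (hF : EtPBC.IsConstructible F) :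
    EtPBC.IsConstructible ((EtShriek.extZero j).obj F) := by
  haveI := EtPushStalk.isIso_unit_extZero j F
  exact isConstructible_of_open_of_zeroAt j _
    (EtCons.isConstructible_of_iso
      (asIso ((EtShriek.extZeroAdj j).unit.app F) ≪≫ (EtPushStalk.restrPullIso j).app _) hF)
    fun x hx => EtPBC.Lam.zeroAt_extZero j F hx

theorem killedBy_map {X Y : Scheme.{u}} (Φ : EtCoh.Ab X ⥤ EtCoh.Ab Y) [Φ.Additive] {n : ℕ} {F : EtCoh.Ab X}
    (h : EtCoh.KilledBy n F) : EtCoh.KilledBy n (Φ.obj F) := by
  rw [EtBCQ.killedBy_iff] at h ⊢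
  rw [← Φ.map_id, ← Functor.map_nsmul, h, Functor.map_zero]

/-- affine base: sheaves living on an open of finite presentation -/
theorem isConstructible_Rpush_supported_affine {B : Type u} [CommRing B] {Y : Scheme.{u}}
    (p : Y ⟶ Spec (CommRingCat.of B)) [IsProper p] (Uo : Y.Opens) (hUc : IsCompact (Uo : Set Y))
    (hU : LocallyOfFinitePresentation (Uo.ι ≫ p)) {n : ℕ} (hn : 0 < n) (G : EtCoh.Ab Y)
    (hGn : EtCoh.KilledBy n G) (hG : EtPBC.IsConstructible ((EtCoh.pull Uo.ι).obj G))
    (h0 : ∀ y ∉ Uo, ZeroAt G y) (q : ℕ) : EtPBC.IsConstructible ((EtCoh.Rpush p q).obj G) := by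
  haveI : CompactSpace Y := QuasiCompact.compactSpace_of_compactSpace p
  obtain ⟨d, hd⟩ := EtRshriek.exists_fibre_bound p
  obtain ⟨P, r, i, hi, hr, hrfp, hir, -⟩ := FibVan.exists_closed_proper_all p d hd
  haveI := hi; haveI := hr; haveI := hrfp
  haveI : CompactSpace P := QuasiCompact.compactSpace_of_compactSpace r
  haveI : QuasiSeparatedSpace P := quasiSeparatedSpace_of_quasiSeparated r
  obtain ⟨O, hO, hOU⟩ := i.isClosedEmbedding.isEmbedding.isInducing.isOpen_iff.1 Uo.2
  obtain ⟨W, hWc, hKW, hWO⟩ := ZarConn.exists_compact_open_between (hUc.image i.continuous) ⟨O, hO⟩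
    (by rintro _ ⟨y, hy, rfl⟩; exact (hOU.symm ▸ hy : y ∈ i ⁻¹' O))
  obtain rfl : Uo = i ⁻¹ᵁ W := by
    refine SetLike.ext fun y => ⟨fun hy => hKW ⟨y, hy, rfl⟩, fun hy => ?_⟩
    exact hOU.subset (hWO hy)
  let κ := i ∣_ W
  let u := (i ⁻¹ᵁ W).ι
  haveI : LocallyOfFinitePresentation (κ ≫ W.ι ≫ r) := by
    rw [← Category.assoc, morphismRestrict_ι, Category.assoc, hir]
    exact hU
  haveI : LocallyOfFinitePresentation κ := LimDesc.lfp_of_comp κ (W.ι ≫ r)
  haveI : IsFinite κ := inferInstance
  haveI : CompactSpace W.toScheme := isCompact_iff_compactSpace.1 hWc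
  haveI := EtPullExact.pull_preservesFiniteLimits u
  have hsq : IsPullback u κ i W.ι := (isPullback_morphismRestrict i W).flip
  have hT := EtPBC.isLTorsion_univ_of_isTorsion (isTorsion_of_killedBy hn hGn)
  haveI := EtPBC.isIso_bcQ_proper i W.ι κ u hsq G hT 0
  let e : (EtCoh.pull W.ι).obj ((EtCoh.push i).obj G) ≅ (EtCoh.push κ).obj ((EtCoh.pull u).obj G) :=
    (EtCoh.pull W.ι).mapIso ((EtCoh.push i).rightDerivedZeroIsoSelf.app G).symm ≪≫
      asIso (EtBC.bcQ i W.ι κ u hsq.w 0 G) ≪≫ (EtCoh.push κ).rightDerivedZeroIsoSelf.app _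
  have hH : EtPBC.IsConstructible ((EtCoh.push i).obj G) :=
    isConstructible_of_open_of_zeroAt W.ι _ (EtCons.isConstructible_of_iso e.symm (EtCons.isConstructible_push κ hG))
      fun x hx => EtPBC.zeroAt_push_of_zeroAt i G hT x fun y hy => h0 y fun hyU => hx ⟨⟨i y, hyU⟩, hy⟩
  obtain ⟨e'⟩ := nonempty_Rpush_push i r p hir G q
  exact EtCons.isConstructible_of_iso e'
    (isConstructible_Rpush_proper r hn _ hH (killedBy_map (EtCoh.push i) hGn) q)

/-- **sheaves living on an open of finite presentation, quasi-separated base** -/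
theorem isConstructible_Rpush_supported {Y S : Scheme.{u}} [QuasiSeparatedSpace S] (p : Y ⟶ S) [IsProper p]
    (Uo : Y.Opens) (hUc : IsCompact (Uo : Set Y))
    (hU : LocallyOfFinitePresentation (Uo.ι ≫ p)) {n : ℕ} (hn : 0 < n) (G : EtCoh.Ab Y)
    (hGn : EtCoh.KilledBy n G) (hG : EtPBC.IsConstructible ((EtCoh.pull Uo.ι).obj G))
    (h0 : ∀ y ∉ Uo, ZeroAt G y) (q : ℕ) : EtPBC.IsConstructible ((EtCoh.Rpush p q).obj G) := by
  refine EtCons.isConstructible_of_openCover _ (fun V : S.affineOpens => V.1) (iSup_affineOpens_eq_top S) fun V => ?_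
  haveI : IsAffine V.1.toScheme := V.2
  let t : Spec Γ(S, V.1) ⟶ S := V.2.fromSpec
  let g' := pullback.fst p t
  haveI : QuasiCompact t := quasiCompact_of_compactSpace t
  haveI := EtPullExact.pull_preservesFiniteLimits g'
  haveI := EtPBC.isIso_bcQ_proper p t (pullback.snd p t) g' (IsPullback.of_hasPullback p t) G
    (EtPBC.isLTorsion_univ_of_isTorsion (isTorsion_of_killedBy hn hGn)) q
  have hU' : LocallyOfFinitePresentation ((g' ⁻¹ᵁ Uo).ι ≫ pullback.snd p t) :=
    MorphismProperty.of_isPullback (P := @LocallyOfFinitePresentation)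
      ((isPullback_morphismRestrict g' Uo).paste_vert (IsPullback.of_hasPullback p t)) hU
  have hG' : EtPBC.IsConstructible ((EtCoh.pull (g' ⁻¹ᵁ Uo).ι).obj ((EtCoh.pull g').obj G)) := by
    obtain ⟨a⟩ := EtCons.nonempty_pull_pull (g' ⁻¹ᵁ Uo).ι g' _ rfl
    obtain ⟨b⟩ := EtCons.nonempty_pull_pull (g' ∣_ Uo) Uo.ι ((g' ⁻¹ᵁ Uo).ι ≫ g') (morphismRestrict_ι g' Uo)
    exact EtCons.isConstructible_of_iso (b.app G ≪≫ (a.app G).symm) (EtCons.isConstructible_pull _ hG)
  have h1 : EtPBC.IsConstructible ((EtCoh.pull t).obj ((EtCoh.Rpush p q).obj G)) :=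
    EtCons.isConstructible_of_iso
      (asIso (EtBC.bcQ p t (pullback.snd p t) g' (IsPullback.of_hasPullback p t).w q G)).symm
      (isConstructible_Rpush_supported_affine (B := Γ(S, V.1)) (pullback.snd p t) (g' ⁻¹ᵁ Uo)
        (QuasiCompact.isCompact_preimage (f := g') _ Uo.2 hUc) hU' hn _ (killedBy_pull g' hGn) hG'
        (fun y hy => EtPBC.zeroAt_pull _ _ y (h0 _ hy)) q)
  let e : V.1.toScheme ⟶ Spec Γ(S, V.1) := V.2.isoSpec.hom
  obtain ⟨c⟩ := EtCons.nonempty_pull_pull e t V.1.ι V.2.isoSpec_hom_fromSpec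
  exact EtCons.isConstructible_of_iso (c.app _) (EtCons.isConstructible_pull e h1)

/-- **direct images with proper support of a constructible sheaf** -/
theorem isConstructible_Rpush_extZero {X P S : Scheme.{u}} [CompactSpace X] [QuasiSeparatedSpace S]
    (j : X ⟶ P) [IsOpenImmersion j] (p : P ⟶ S) [IsProper p] [LocallyOfFinitePresentation (j ≫ p)]
    {n : ℕ} (hn : 0 < n) (F : EtCoh.Ab X) (hF : EtPBC.IsConstructible F) (hFn : EtCoh.KilledBy n F) (q : ℕ) :
    EtPBC.IsConstructible ((EtCoh.Rpush p q).obj ((EtShriek.extZero j).obj F)) := by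
  haveI : (EtShriek.extZero j).Additive := (EtShriek.extZeroAdj j).left_adjoint_additive
  haveI := EtPushStalk.isIso_unit_extZero j F
  refine isConstructible_Rpush_supported p j.opensRange (isCompact_range j.continuous) ?_ hn _
    (killedBy_map (EtShriek.extZero j) hFn) ?_ (fun y hy => EtPBC.Lam.zeroAt_extZero j F hy) q
  · rw [← Scheme.Hom.isoOpensRange_inv_comp j, Category.assoc]
    infer_instance
  · obtain ⟨a⟩ := EtCons.nonempty_pull_pull j.isoOpensRange.inv j _ (Scheme.Hom.isoOpensRange_inv_comp j)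
    exact EtCons.isConstructible_of_iso (a.app _) (EtCons.isConstructible_pull _
      (EtCons.isConstructible_of_iso
        (asIso ((EtShriek.extZeroAdj j).unit.app F) ≪≫ (EtPushStalk.restrPullIso j).app _) hF))

end Groth.Agent.EtConsPush
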